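import Groth.Agent.H6Tor.Convert
import Groth.Agent.NodeTor.Basic
import Groth.Agent.CAlgOdd.FiniteResolution

/-!
# Projective resolutions in module-theoretic terms
-/

universe u

open CategoryTheory TensorProduct

namespace Groth.Agent.H6Tor

variable {R : Type u} [CommRing R]

/-- A projective resolution of a module. -/
structure Res (R : Type u) [CommRing R] (M : Type u) [AddCommGroup M] [Module R M] where
  X : ℕ → ModuleCat.{u} R
  proj : ∀ n, Module.Projective R ↥(X n)
  d : ∀ n, ↥(X (n + 1)) →ₗ[R] ↥(X n)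
  ε : ↥(X 0) →ₗ[R] M
  surj : Function.Surjective ε
  exact₀ : Function.Exact (d 0) ε
  exact : ∀ n, Function.Exact (d (n + 1)) (d n)

attribute [instance] Res.proj

variable {M : Type u} [AddCommGroup M] [Module R M]

/-- The projective resolution underlying a `Res`. -/
noncomputable def Res.toPR (P : Res R M) : ProjectiveResolution (ModuleCat.of R M) :=
  NodeTor.resolution (ModuleCat.of R M) P.X
    (fun n => (IsProjective.iff_projective _).1 (P.proj n)) (fun n => ModuleCat.ofHom (P.d n))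
    (fun n => ModuleCat.hom_ext (P.exact n).linearMap_comp_eq_zero) (ModuleCat.ofHom P.ε)
    (ModuleCat.hom_ext P.exact₀.linearMap_comp_eq_zero) P.surj P.exact₀ P.exact

theorem Res.toPR_d (P : Res R M) (n : ℕ) : (P.toPR.complex.d (n + 1) n).hom = P.d n := by
  simp only [Res.toPR]
  rw [NodeTor.resolution_d]
  rfl

/-- A `Res` from a projective resolution. -/
noncomputable def Res.ofPR (P : ProjectiveResolution (ModuleCat.of R M)) : Res R M where
  X n := P.complex.X n
  proj n := (IsProjective.iff_projective _).2 (P.projective n)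
  d n := (P.complex.d (n + 1) n).hom
  ε := (P.π.f 0).hom
  surj := (ModuleCat.epi_iff_surjective (P.π.f 0)).1 inferInstance
  exact₀ := (ShortComplex.ShortExact.moduleCat_exact_iff_function_exact _).1 P.exact₀
  exact n := (ShortComplex.ShortExact.moduleCat_exact_iff_function_exact _).1 (P.exact_succ n)

theorem exists_finite_res [IsNoetherianRing R] (M : Type u) [AddCommGroup M] [Module R M]
    [Module.Finite R M] : ∃ P : Res R M, ∀ n, Module.Finite R ↥(P.X n) := by
  obtain ⟨F, hF⟩ := CAlgOdd.FiniteResolution.exists_projectiveResolution R M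
  exact ⟨Res.ofPR F, fun n => (hF n).1⟩

/-- Copies of a resolution. -/
noncomputable def Res.finsupp (P : Res R M) (ι : Type u) : Res R (ι →₀ M) where
  X n := ModuleCat.of R (ι →₀ ↥(P.X n))
  proj n := by
    classical
    exact Module.Projective.of_equiv (TensorProduct.finsuppScalarLeft R ↥(P.X n) ι)
  d n := Finsupp.mapRange.linearMap (P.d n)
  ε := Finsupp.mapRange.linearMap P.ε
  surj := Finsupp.mapRange_surjective P.ε (map_zero _) P.surj
  exact₀ := finsuppExact _ P.exact₀
  exact n := finsuppExact _ (P.exact n)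
where
  finsuppExact {A B C : Type u} [AddCommGroup A] [Module R A] [AddCommGroup B] [Module R B]
      [AddCommGroup C] [Module R C] {f : A →ₗ[R] B} {g : B →ₗ[R] C} (ι : Type u)
      (h : Function.Exact f g) :
      Function.Exact (Finsupp.mapRange.linearMap (α := ι) f) (Finsupp.mapRange.linearMap (α := ι) g) := by
    classical
    intro x
    constructor
    · intro hx
      have hx' : ∀ i, ∃ a, f a = x i := fun i => (h (x i)).1 (by
        simpa using DFunLike.congr_fun hx i)
      choose a ha using hx'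
      refine ⟨Finsupp.onFinset x.support (fun i => if x i = 0 then 0 else a i)
        (fun i hi => Finsupp.mem_support_iff.2 fun h0 => hi (if_pos h0)), ?_⟩
      ext i
      change f ((Finsupp.onFinset x.support _ _) i) = x i
      rw [Finsupp.onFinset_apply]
      split_ifs with h0
      · rw [map_zero, h0]
      · exact ha i
    · rintro ⟨a, rfl⟩
      ext i
      exact h.apply_apply_eq_zero _

/-- Membership in `I • ⊤` for finitely supported functions. -/
theorem mem_smul_top_finsupp {F ι : Type u} [AddCommGroup F] [Module R F] (I : Ideal R) (x : ι →₀ F) :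
    x ∈ I • (⊤ : Submodule R (ι →₀ F)) ↔ ∀ i, x i ∈ I • (⊤ : Submodule R F) := by
  constructor
  · intro hx i
    have := Submodule.mem_map_of_mem (f := Finsupp.lapply i) hx
    rw [Submodule.map_smul''] at this
    exact Submodule.smul_mono le_rfl le_top this
  · intro hx
    rw [← Finsupp.sum_single x]
    refine Submodule.sum_mem _ fun i _ => ?_
    have := Submodule.mem_map_of_mem (f := Finsupp.lsingle i) (hx i)
    rw [Submodule.map_smul''] at this
    exact Submodule.smul_mono le_rfl le_top this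

/-- Cycles modulo `I ^ n` are boundaries modulo `I ^ (n - c)`. -/
def Crit (P : Res R M) (I : Ideal R) (i c : ℕ) : Prop :=
  ∀ n : ℕ, ∀ x : ↥(P.X (i + 1)), P.d i x ∈ I ^ n • (⊤ : Submodule R ↥(P.X i)) →
    ∃ y, x - P.d (i + 1) y ∈ I ^ (n - c) • (⊤ : Submodule R ↥(P.X (i + 1)))

/-- The Artin-Rees lifting property. -/
def Lifts (P : Res R M) (I : Ideal R) (i c : ℕ) : Prop :=
  ∀ n : ℕ, ∀ x : ↥(P.X (i + 1)), P.d i x ∈ I ^ n • (⊤ : Submodule R ↥(P.X i)) →
    ∃ g ∈ I ^ (n - c) • (⊤ : Submodule R ↥(P.X (i + 1))), P.d i g = P.d i x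

theorem exists_lifts [IsNoetherianRing R] (P : Res R M) (I : Ideal R) (i : ℕ)
    [Module.Finite R ↥(P.X i)] : ∃ c, ∀ ι : Type u, Lifts (P.finsupp ι) I i c := by
  classical
  obtain ⟨c, hc⟩ := Ideal.exists_pow_inf_eq_pow_smul I (LinearMap.range (P.d i))
  refine ⟨c, fun ι n x' hx => ?_⟩
  let x : ι →₀ ↥(P.X (i + 1)) := x'
  have hco : ∀ j, ∃ g ∈ I ^ (n - c) • (⊤ : Submodule R ↥(P.X (i + 1))), P.d i g = P.d i (x j) := by
    intro j
    have h1 := (mem_smul_top_finsupp (I ^ n) _).1 hx j
    rcases le_or_gt c n with hn | hn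
    · have h2 : P.d i (x j) ∈ (I ^ n • ⊤ : Submodule R ↥(P.X i)) ⊓ LinearMap.range (P.d i) :=
        ⟨h1, LinearMap.mem_range_self _ _⟩
      rw [hc n hn] at h2
      have h3 := Submodule.smul_mono (le_refl (I ^ (n - c))) inf_le_right h2
      rw [← Submodule.map_top, ← Submodule.map_smul''] at h3
      exact h3
    · exact ⟨_, by rw [Nat.sub_eq_zero_of_le hn.le, pow_zero, Ideal.one_eq_top, Submodule.top_smul]; trivial, rfl⟩
  choose g hg hgd using hco
  let G : ι →₀ ↥(P.X (i + 1)) := Finsupp.onFinset x.support (fun j => if x j = 0 then 0 else g j)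
    (fun j hj => Finsupp.mem_support_iff.2 fun h0 => hj (if_pos h0))
  refine ⟨G, (mem_smul_top_finsupp (I ^ (n - c)) G).2 fun j => ?_, Finsupp.ext fun j => ?_⟩
  · rw [Finsupp.onFinset_apply]
    split_ifs
    exacts [zero_mem _, hg j]
  · change P.d i (G j) = P.d i (x j)
    rw [Finsupp.onFinset_apply]
    split_ifs with h0
    · rw [h0]
    · exact hgd j

/-- The criterion gives vanishing of the maps of Tor. -/
theorem tor_map_eq_zero_of_crit (P : Res R M) (I : Ideal R) {i c : ℕ} (h : Crit P I i c) (n : ℕ)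
    (hle : I ^ n ≤ I ^ (n - c)) :
    ((Tor (ModuleCat.{u} R) (i + 1)).obj (ModuleCat.of R M)).map
      (ModuleCat.ofHom (Submodule.mapQ (I ^ n) (I ^ (n - c)) LinearMap.id hle)) = 0 := by
  refine tor_map_eq_zero_of P.toPR i _ fun x hx => ?_
  have e1 := P.toPR_d i
  have e2 := P.toPR_d (i + 1)
  let x' : ↥(P.X (i + 1)) ⊗[R] (R ⧸ I ^ n) := x
  obtain ⟨x₀, hx₀⟩ : ∃ x₀ : ↥(P.X (i + 1)), x₀ ⊗ₜ[R] (Ideal.Quotient.mk (I ^ n) 1) = x' := by
    clear_value x'
    clear hx
    induction x' using TensorProduct.induction_on with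
    | zero => exact ⟨0, zero_tmul _ _⟩
    | tmul a b =>
      obtain ⟨b, rfl⟩ := Ideal.Quotient.mk_surjective b
      refine ⟨b • a, ?_⟩
      rw [smul_tmul]
      exact congrArg (a ⊗ₜ[R] ·) ((Submodule.Quotient.mk_smul (I ^ n) b 1).symm.trans
        (congrArg Submodule.Quotient.mk (mul_one b)))
    | add a b ha hb =>
      obtain ⟨a', rfl⟩ := ha
      obtain ⟨b', rfl⟩ := hb
      exact ⟨a' + b', add_tmul _ _ _⟩
  have hd : P.d i x₀ ∈ I ^ n • (⊤ : Submodule R ↥(P.X i)) := by
    have h1 : (P.d i).rTensor (R ⧸ I ^ n) (x₀ ⊗ₜ[R] (Ideal.Quotient.mk (I ^ n) 1)) = 0 := by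
      rw [hx₀, ← e1]; exact hx
    have h2 := congrArg (tensorQuotEquivQuotSMul ↥(P.X i) (I ^ n)) h1
    rw [LinearMap.rTensor_tmul, tensorQuotEquivQuotSMul_tmul_mk, one_smul, map_zero] at h2
    exact (Submodule.Quotient.mk_eq_zero _).1 h2
  obtain ⟨y, hy⟩ := h n x₀ hd
  refine ⟨(y ⊗ₜ[R] (Ideal.Quotient.mk (I ^ (n - c)) 1) : ↥(P.X (i + 1 + 1)) ⊗[R] (R ⧸ I ^ (n - c))), ?_⟩
  rw [show x = x' from rfl, ← hx₀, e2]
  apply (tensorQuotEquivQuotSMul ↥(P.X (i + 1)) (I ^ (n - c))).injective
  erw [LinearMap.rTensor_tmul, LinearMap.lTensor_tmul, tensorQuotEquivQuotSMul_tmul_mk]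
  refine Eq.trans ?_ (tensorQuotEquivQuotSMul_tmul_mk (I ^ (n - c)) x₀ (1 : R)).symm
  rw [one_smul, one_smul]
  exact ((Submodule.Quotient.eq _).2 hy).symm

end Groth.Agent.H6Tor
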