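import Groth.Agent.H6Tor.Chain
import Groth.Prelude.Def_BlowUp2

/-!
# Almost Tor dimension of affine blowup algebras
-/

universe u

open Polynomial

namespace Groth.Agent.H6Tor

variable {R : Type u} [CommRing R] [IsNoetherianRing R]

/-- The base case: the image of the ring in a localisation. -/
theorem almost_empty_away (a₀ : R) :
    Almost (R := R) (algebraMap R (Localization.Away a₀) a₀) {none} ∅ 0 := by
  let x := algebraMap R (Localization.Away a₀) a₀
  let B := gen (R := R) x ∅
  have hsurj : Function.Surjective (Algebra.linearMap R B) := fun b => by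
    have hle : B ≤ (⊥ : Subalgebra R (Localization.Away a₀)) := Algebra.adjoin_le <| by
      rintro y (rfl | hy)
      · exact Algebra.mem_bot.2 ⟨a₀, rfl⟩
      · exact absurd hy (by simp)
    obtain ⟨r, hr⟩ := Algebra.mem_bot.1 (hle b.2)
    exact ⟨r, Subtype.ext hr⟩
  let J : ℕ →o Submodule R R :=
    ⟨fun n => LinearMap.ker (LinearMap.mulLeft R (a₀ ^ n)), fun n m hnm r hr => by
      obtain ⟨k, rfl⟩ := Nat.exists_eq_add_of_le hnm
      simp only [LinearMap.mem_ker, LinearMap.mulLeft_apply] at hr ⊢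
      rw [pow_add, mul_right_comm, hr, zero_mul]⟩
  obtain ⟨c, hc⟩ := monotone_stabilizes_iff_noetherian.2 (inferInstance : IsNoetherian R R) J
  refine ⟨c, ?_⟩
  rintro _ rfl
  let v : B := vpow none (genU (R := R) x ∅)
  let π : R →ₗ[R] B ⧸ Ideal.span {v} := Algebra.linearMap R _
  have hπ : Function.Surjective π := fun q => by
    obtain ⟨b, rfl⟩ := Ideal.Quotient.mk_surjective q
    obtain ⟨r, rfl⟩ := hsurj b
    exact ⟨r, rfl⟩
  obtain ⟨h, hh⟩ := exists_comp_eq_of_ker_le π hπ (LinearMap.mulLeft R (a₀ ^ c)) fun r hr => by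
    have h1 : algebraMap R B r = 0 := by
      have h' := Ideal.mem_span_singleton.1 (Ideal.Quotient.eq_zero_iff_mem.1 (show
        Ideal.Quotient.mk (Ideal.span {v}) (algebraMap R B r) = 0 from hr))
      exact zero_dvd_iff.1 h'
    obtain ⟨⟨_, n, rfl⟩, hn⟩ := (IsLocalization.map_eq_zero_iff (Submonoid.powers a₀)
      (Localization.Away a₀) r).1 (congrArg Subtype.val h1)
    have hm : r ∈ J (max c n) := J.monotone (le_max_right _ _) (LinearMap.mem_ker.2 hn)
    rw [← hc _ (le_max_left _ _)] at hm
    exact hm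
  suffices LinearMap.mulLeft R (Ideal.Quotient.mk (Ideal.span {v}) (genU (R := R) x ∅ ^ c)) = π ∘ₗ h from
    fun n _ => this ▸ (Kills.comp_right (kills_of_flat n π) h)
  refine LinearMap.ext fun q => ?_
  obtain ⟨r, rfl⟩ := hπ q
  have hh' := LinearMap.congr_fun hh r
  rw [LinearMap.comp_apply] at hh' ⊢
  rw [hh', LinearMap.mulLeft_apply, LinearMap.mulLeft_apply]
  change Ideal.Quotient.mk _ _ * Ideal.Quotient.mk _ (algebraMap R B r) =
    Ideal.Quotient.mk _ (algebraMap R B (a₀ ^ c * r))
  rw [map_mul (algebraMap R B), map_pow (algebraMap R B), map_mul (Ideal.Quotient.mk _)]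
  rfl

/-- A uniform bound for the affine blowup algebra of an ideal with `t + 1` generators. -/
theorem exists_affineBlowup (t : ℕ) (a : Fin (t + 1) → R) :
    ∃ c : ℕ, ∀ r ∈ Ideal.span (Set.range a) ^ c, ATor t
      (r • LinearMap.id : BlowUp.affineAlgebra R (Ideal.span (Set.range a)) (a 0) →ₗ[R]
        BlowUp.affineAlgebra R (Ideal.span (Set.range a)) (a 0)) := by
  classical
  let I := Ideal.span (Set.range a)
  let L := Localization.Away (a 0)
  let den : Submonoid.powers (a 0) := ⟨a 0, Submonoid.mem_powers _⟩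
  let x : L := algebraMap R L (a 0)
  have hx : IsUnit x := IsLocalization.map_units L den
  let S : Finset L := Finset.univ.image fun i : Fin t => IsLocalization.mk' L (a i.succ) den
  obtain ⟨c, hc⟩ := almost_card hx {none} S (fun z hz => by
    obtain ⟨i, -, rfl⟩ := Finset.mem_image.1 hz
    exact Algebra.mem_bot.2 ⟨a i.succ, (IsLocalization.mk'_spec' L (a i.succ) den).symm⟩)
    (almost_empty_away (a 0))
  let A' := BlowUp.affineAlgebra R I (a 0)
  let B := gen (R := R) x S
  have hBA : B = A' := le_antisymm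
    (Algebra.adjoin_le <| by
      rintro y (rfl | hy)
      · exact A'.algebraMap_mem _
      · obtain ⟨i, -, rfl⟩ := Finset.mem_image.1 hy
        exact Algebra.subset_adjoin ⟨a i.succ, Ideal.subset_span ⟨_, rfl⟩, rfl⟩)
    (Algebra.adjoin_le <| by
      rintro _ ⟨y, hy, rfl⟩
      induction hy using Submodule.span_induction with
      | mem y hy =>
        obtain ⟨i, rfl⟩ := hy
        rcases Fin.eq_zero_or_eq_succ i with rfl | ⟨j, rfl⟩
        · rw [show IsLocalization.mk' L (a 0) den = 1 from IsLocalization.mk'_self L (Submonoid.mem_powers _)]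
          exact one_mem _
        · exact Algebra.subset_adjoin (Set.mem_insert_of_mem _
            (Finset.mem_image_of_mem _ (Finset.mem_univ j)))
      | zero => rw [IsLocalization.mk'_zero]; exact zero_mem _
      | add p q _ _ hp hq =>
        rw [IsLocalization.mk'_eq_mul_mk'_one, map_add, add_mul, ← IsLocalization.mk'_eq_mul_mk'_one,
          ← IsLocalization.mk'_eq_mul_mk'_one]
        exact add_mem hp hq
      | smul r p _ hp =>
        rw [smul_eq_mul, IsLocalization.mk'_eq_mul_mk'_one, map_mul, mul_assoc,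
          ← IsLocalization.mk'_eq_mul_mk'_one]
        exact mul_mem (B.algebraMap_mem r) hp)
  have hz : ∀ (k : ℕ), ∀ r ∈ I ^ k, ∃ z : B, x ^ k * z = algebraMap R L r := by
    intro k
    induction k with
    | zero => exact fun r _ => ⟨algebraMap R B r, by rw [pow_zero, one_mul]; rfl⟩
    | succ k ih =>
      intro r hr
      rw [pow_succ] at hr
      refine Submodule.mul_induction_on hr (fun i hi j hj => ?_) fun p q ⟨z, hp⟩ ⟨w, hq⟩ => ⟨z + w, ?_⟩
      · obtain ⟨z, hz⟩ := ih i hi
        have hw : IsLocalization.mk' L j den ∈ B := hBA ▸ Algebra.subset_adjoin ⟨j, hj, rfl⟩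
        refine ⟨z * ⟨_, hw⟩, ?_⟩
        change x ^ (k + 1) * ((z : L) * IsLocalization.mk' L j den) = _
        rw [map_mul, ← hz, ← IsLocalization.mk'_spec' L j den, pow_succ]
        ring
      · rw [map_add, ← hp, ← hq, ← mul_add]; rfl
  refine ⟨c, fun r hr => ?_⟩
  have hd := (hc none rfl).mono (show S.card ≤ t from Finset.card_image_le.trans (by simp))
  obtain ⟨z, hz⟩ := hz c r hr
  let u : B := genU x S
  let v : B := vpow none u
  have hv : Ideal.span {v} = ⊥ := Ideal.span_singleton_eq_bot.2 rfl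
  let q : B ≃ₗ[R] (B ⧸ Ideal.span {v}) :=
    LinearEquiv.ofBijective (Ideal.Quotient.mkₐ R (Ideal.span {v})).toLinearMap
      ⟨fun p p' h => sub_eq_zero.1 (by
        have := Ideal.Quotient.eq.1 h
        rwa [hv, Ideal.mem_bot] at this), Ideal.Quotient.mk_surjective⟩
  let e : B ≃ₗ[R] A' := (Subalgebra.equivOfEq _ _ hBA).toLinearEquiv
  suffices (r • LinearMap.id : A' →ₗ[R] A') = ((e.toLinearMap ∘ₗ q.symm.toLinearMap) ∘ₗ
      LinearMap.mulLeft R (Ideal.Quotient.mk (Ideal.span {v}) (u ^ c))) ∘ₗ
        (q.toLinearMap ∘ₗ LinearMap.mulLeft R z ∘ₗ e.symm.toLinearMap) from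
    this ▸ (hd.comp_left _).comp_right _
  refine LinearMap.ext fun y => ?_
  obtain ⟨b, rfl⟩ := e.surjective y
  simp only [LinearMap.comp_apply, LinearEquiv.coe_coe, LinearEquiv.symm_apply_apply,
    LinearMap.mulLeft_apply, LinearMap.smul_apply, LinearMap.id_apply]
  rw [show Ideal.Quotient.mk (Ideal.span {v}) (u ^ c) * q (z * b) = q (u ^ c * (z * b)) from
    (map_mul (Ideal.Quotient.mk _) _ _).symm, LinearEquiv.symm_apply_apply, ← map_smul]
  refine congrArg e (Subtype.ext ?_)
  change r • (b : L) = x ^ c * ((z : L) * b)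
  rw [← mul_assoc, hz, Algebra.smul_def]

end Groth.Agent.H6Tor
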