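import Groth.Agent.H6Tor.Step

/-!
# Almost Tor dimension of subalgebras generated by fractions
-/

universe u

open TensorProduct Polynomial

namespace Groth.Agent.H6Tor

variable {R L : Type u} [CommRing R] [CommRing L] [Algebra R L]

/-- `u`, or zero, raised to an optional power. -/
def vpow {B : Type u} [CommRing B] (o : Option ℕ) (x : B) : B := o.elim 0 (x ^ ·)

/-- The subalgebra generated by `x` and `S`. -/
def gen (x : L) (S : Finset L) : Subalgebra R L := Algebra.adjoin R (insert x (S : Set L))

/-- `x` as an element of the subalgebra it generates. -/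
def genU (x : L) (S : Finset L) : gen (R := R) x S :=
  ⟨x, Algebra.subset_adjoin (Set.mem_insert _ _)⟩

/-- Almost Tor dimension at most `d`, uniformly in the allowed quotients. -/
def Almost (x : L) (O : Set (Option ℕ)) (S : Finset L) (d : ℕ) : Prop :=
  ∃ c : ℕ, ∀ o ∈ O, ATor d (LinearMap.mulLeft R
    (Ideal.Quotient.mk (Ideal.span {vpow o (genU (R := R) x S)}) (genU (R := R) x S ^ c)))

variable [IsNoetherianRing R]

theorem almost_insert {x : L} (hx : IsUnit x) (O : Set (Option ℕ)) (S : Finset L) (z : L)
    (hz : x * z ∈ (⊥ : Subalgebra R L)) {d : ℕ} [DecidableEq L] (h : Almost (R := R) x O S d) :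
    Almost (R := R) x O (insert z S) (d + 1) := by
  obtain ⟨c, hc⟩ := h
  obtain ⟨r, hr⟩ := Algebra.mem_bot.1 hz
  have hle : gen (R := R) x S ≤ gen x (insert z S) :=
    Algebra.adjoin_mono (Set.insert_subset_insert (by simp [Finset.coe_insert]))
  letI : Algebra (gen (R := R) x S) (gen (R := R) x (insert z S)) :=
    (Subalgebra.inclusion hle).toRingHom.toAlgebra
  haveI : IsScalarTower R (gen (R := R) x S) (gen (R := R) x (insert z S)) :=
    IsScalarTower.of_algebraMap_eq fun _ => rfl
  haveI : IsNoetherianRing (gen (R := R) x S) := isNoetherianRing_of_fg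
    (by classical exact ⟨insert x S, by rw [Finset.coe_insert]; rfl⟩)
  let z' : gen (R := R) x (insert z S) :=
    ⟨z, Algebra.subset_adjoin (Set.mem_insert_of_mem _ (by simp))⟩
  have hu : algebraMap (gen (R := R) x S) (gen (R := R) x (insert z S)) (genU x S) = genU x (insert z S) := rfl
  have hgen : Function.Surjective (aeval z' : (gen (R := R) x S)[X] → gen (R := R) x (insert z S)) := by
    intro b
    have hb : (b : L) ∈ ((gen (R := R) x (insert z S)).val.comp
        ((aeval z' : (gen (R := R) x S)[X] →ₐ[gen (R := R) x S] gen (R := R) x (insert z S)).restrictScalars R)).range := by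
      refine Algebra.adjoin_le ?_ b.2
      rintro y (rfl | hy)
      · exact ⟨C (genU y S), by simp; rfl⟩
      · rcases Finset.mem_insert.1 hy with rfl | hy
        · exact ⟨X, by simp [z']⟩
        · exact ⟨C ⟨y, Algebra.subset_adjoin (Set.mem_insert_of_mem _ hy)⟩, by simp; rfl⟩
    obtain ⟨p, hp⟩ := hb
    exact ⟨p, Subtype.ext hp⟩
  obtain ⟨c₀, hc₀⟩ := ator_step (R := R) (B := gen (R := R) x S) (B' := gen (R := R) x (insert z S))
    (Subalgebra.inclusion_injective hle) (genU x S) (algebraMap R _ r) z'
    (Subtype.ext hr.symm) hgen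
    (fun y hy => Subtype.ext (hx.mul_right_eq_zero.1 (congrArg Subtype.val hy)))
  refine ⟨2 * (c + c₀), fun o ho => ?_⟩
  have := hc₀ (vpow o (genU x S)) (by
    cases o with
    | none => exact Or.inl rfl
    | some q => exact Or.inr fun y hy => Subtype.ext ((hx.pow q).mul_right_eq_zero.1 (congrArg Subtype.val hy))) d c (hc o ho)
  rw [show algebraMap (gen (R := R) x S) (gen (R := R) x (insert z S)) (vpow o (genU x S)) =
    vpow o (genU x (insert z S)) by cases o <;> simp [vpow, hu], hu] at this
  exact this

/-- The almost Tor dimension is at most the number of fractions. -/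
theorem almost_card {x : L} (hx : IsUnit x) (O : Set (Option ℕ)) (S : Finset L)
    (hS : ∀ z ∈ S, x * z ∈ (⊥ : Subalgebra R L)) (h0 : Almost (R := R) x O ∅ 0) :
    Almost (R := R) x O S S.card := by
  classical
  induction S using Finset.induction_on with
  | empty => exact h0
  | @insert z S hz ih =>
    rw [Finset.card_insert_of_notMem hz]
    exact almost_insert hx O S z (hS z (Finset.mem_insert_self _ _))
      (ih fun y hy => hS y (Finset.mem_insert_of_mem hy))

end Groth.Agent.H6Tor
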