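import Groth.Agent.H6Tor.Res

/-!
# The cone of a map of resolutions, and uniform Artin-Rees for Tor of bounded torsion modules
-/

universe u

open CategoryTheory

namespace Groth.Agent.H6Tor

variable {R : Type u} [CommRing R]

section Cone

variable {M N : Type u} [AddCommGroup M] [Module R M] [AddCommGroup N] [Module R N]
  (p : N →ₗ[R] M) (G : Res R N) (K : Res R (LinearMap.ker p))

/-- A chain map over the inclusion of the kernel. -/
theorem exists_chain_map : ∃ φ : ∀ n, ↥(K.X n) →ₗ[R] ↥(G.X n),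
    (∀ z, G.ε (φ 0 z) = (K.ε z : N)) ∧ ∀ n z, G.d n (φ (n + 1) z) = φ n (K.d n z) := by
  obtain ⟨φ₀, h₀⟩ := Module.projective_lifting_property G.ε
    ((LinearMap.ker p).subtype ∘ₗ K.ε) G.surj
  let T := fun n => { φ : ↥(K.X n) →ₗ[R] ↥(G.X n) //
    LinearMap.range (φ ∘ₗ K.d n) ≤ LinearMap.range (G.d n) }
  have base : LinearMap.range (φ₀ ∘ₗ K.d 0) ≤ LinearMap.range (G.d 0) := by
    rintro _ ⟨z, rfl⟩
    refine (G.exact₀ _).1 ?_
    change (G.ε ∘ₗ φ₀) (K.d 0 z) = 0
    rw [h₀]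
    simp [K.exact₀.apply_apply_eq_zero]
  have step : ∀ (n : ℕ) (t : T n), ∃ t' : T (n + 1), G.d n ∘ₗ t'.1 = t.1 ∘ₗ K.d n := by
    intro n t
    obtain ⟨ψ, hψ⟩ := Module.projective_lifting_property (G.d n).rangeRestrict
      ((Submodule.inclusion t.2) ∘ₗ (t.1 ∘ₗ K.d n).rangeRestrict) (G.d n).surjective_rangeRestrict
    have hψ' : G.d n ∘ₗ ψ = t.1 ∘ₗ K.d n :=
      LinearMap.ext fun z => congrArg Subtype.val (LinearMap.congr_fun hψ z)
    refine ⟨⟨ψ, ?_⟩, hψ'⟩
    rintro _ ⟨z, rfl⟩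
    refine (G.exact n _).1 ?_
    change (G.d n ∘ₗ ψ) (K.d (n + 1) z) = 0
    rw [hψ']
    simp [(K.exact n).apply_apply_eq_zero]
  choose next hnext using step
  let t : ∀ n, T n := fun n => n.rec ⟨φ₀, base⟩ next
  exact ⟨fun n => (t n).1, fun z => LinearMap.congr_fun h₀ z,
    fun n z => LinearMap.congr_fun (hnext n (t n)) z⟩

variable (φ : ∀ n, ↥(K.X n) →ₗ[R] ↥(G.X n))

/-- The terms of the cone. -/
def coneX : ℕ → ModuleCat.{u} R
  | 0 => G.X 0
  | n + 1 => ModuleCat.of R (↥(G.X (n + 1)) × ↥(K.X n))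

/-- The differentials of the cone. -/
noncomputable def coneD : ∀ n, ↥(coneX p G K (n + 1)) →ₗ[R] ↥(coneX p G K n)
  | 0 => (G.d 0).coprod (φ 0)
  | n + 1 => ((G.d (n + 1)).coprod (φ (n + 1))).prod
      (-(K.d n ∘ₗ LinearMap.snd R ↥(G.X (n + 1 + 1)) ↥(K.X (n + 1))))

/-- The cone of a map of resolutions. -/
noncomputable def cone (hp : Function.Surjective p) (h₀ : ∀ z, G.ε (φ 0 z) = (K.ε z : N))
    (h : ∀ n z, G.d n (φ (n + 1) z) = φ n (K.d n z)) : Res R M where
  X := coneX p G K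
  proj
    | 0 => inferInstanceAs (Module.Projective R ↥(G.X 0))
    | n + 1 => inferInstanceAs (Module.Projective R (↥(G.X (n + 1)) × ↥(K.X n)))
  d := coneD p G K φ
  ε := p ∘ₗ G.ε
  surj := hp.comp G.surj
  exact₀ := fun (g : ↥(G.X 0)) => by
    constructor
    · intro hg
      obtain ⟨z, hz⟩ := K.surj ⟨G.ε g, hg⟩
      obtain ⟨g', hg'⟩ := (G.exact₀ (g - φ 0 z)).1 (by rw [map_sub, h₀, hz, sub_self])
      exact ⟨((g', z) : ↥(G.X 1) × ↥(K.X 0)), by
        change G.d 0 g' + φ 0 z = g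
        rw [hg', sub_add_cancel]⟩
    · rintro ⟨⟨g', z⟩, rfl⟩
      change p (G.ε (G.d 0 g' + φ 0 z)) = 0
      rw [map_add, h₀, G.exact₀.apply_apply_eq_zero, zero_add]
      exact (K.ε z).2
  exact
    | 0 => fun ⟨g, z⟩ => by
      constructor
      · intro hx
        change G.d 0 g + φ 0 z = 0 at hx
        have hz : K.ε z = 0 := Subtype.ext (by
          have := congrArg G.ε hx
          rwa [map_add, h₀, G.exact₀.apply_apply_eq_zero, zero_add, map_zero] at this)
        obtain ⟨z', hz'⟩ := (K.exact₀ z).1 hz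
        obtain ⟨g', hg'⟩ := (G.exact 0 (g + φ 1 z')).1 (by rw [map_add, h, hz', hx])
        refine ⟨((g', -z') : ↥(G.X 2) × ↥(K.X 1)), Prod.ext ?_ ?_⟩
        · change G.d 1 g' + φ 1 (-z') = g
          rw [hg', map_neg, add_neg_cancel_right]
        · change -(K.d 0 (-z')) = z
          rw [map_neg, neg_neg, hz']
      · rintro ⟨⟨g', z'⟩, hz'⟩
        rw [← hz']
        change G.d 0 (G.d 1 g' + φ 1 z') + φ 0 (-(K.d 0 z')) = 0
        rw [map_add, map_neg, h, (G.exact 0).apply_apply_eq_zero, zero_add, add_neg_cancel]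
    | n + 1 => fun ⟨g, z⟩ => by
      constructor
      · intro hx
        have hx1 : G.d (n + 1) g + φ (n + 1) z = 0 := congrArg Prod.fst hx
        have hx2 : -(K.d n z) = 0 := congrArg Prod.snd hx
        obtain ⟨z', hz'⟩ := (K.exact n z).1 (neg_eq_zero.1 hx2)
        obtain ⟨g', hg'⟩ := (G.exact (n + 1) (g + φ (n + 2) z')).1 (by rw [map_add, h, hz', hx1])
        refine ⟨((g', -z') : ↥(G.X (n + 3)) × ↥(K.X (n + 2))), Prod.ext ?_ ?_⟩
        · change G.d (n + 2) g' + φ (n + 2) (-z') = g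
          rw [hg', map_neg, add_neg_cancel_right]
        · change -(K.d (n + 1) (-z')) = z
          rw [map_neg, neg_neg, hz']
      · rintro ⟨⟨g', z'⟩, hz'⟩
        rw [← hz']
        refine Prod.ext ?_ ?_
        · change G.d (n + 1) (G.d (n + 2) g' + φ (n + 2) z') + φ (n + 1) (-(K.d (n + 1) z')) = 0
          rw [map_add, map_neg, h, (G.exact (n + 1)).apply_apply_eq_zero, zero_add, add_neg_cancel]
        · change -(K.d n (-(K.d (n + 1) z'))) = 0
          rw [map_neg, neg_neg, (K.exact n).apply_apply_eq_zero]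

end Cone

variable [IsNoetherianRing R]

omit [IsNoetherianRing R] in
theorem map_mem_smul_top {A B : Type u} [AddCommGroup A] [Module R A] [AddCommGroup B] [Module R B]
    (f : A →ₗ[R] B) (J : Ideal R) {x : A} (hx : x ∈ J • (⊤ : Submodule R A)) :
    f x ∈ J • (⊤ : Submodule R B) := by
  have := Submodule.mem_map_of_mem (f := f) hx
  rw [Submodule.map_smul''] at this
  exact Submodule.smul_mono le_rfl le_top this

/-- A cycle criterion in the first positive degree. -/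
theorem exists_crit (I : Ideal R) (m i : ℕ) : ∃ c : ℕ, ∀ (M : Type u) [AddCommGroup M] [Module R M],
    (∀ a ∈ I ^ m, ∀ x : M, a • x = 0) → ∃ P : Res R M, Crit P I i c := by
  classical
  obtain ⟨F, hF⟩ := exists_finite_res (R := R) (R ⧸ I ^ m)
  have hcov : ∀ (M : Type u) [AddCommGroup M] [Module R M], (∀ a ∈ I ^ m, ∀ x : M, a • x = 0) →
      ∃ p : (M →₀ R ⧸ I ^ m) →ₗ[R] M, Function.Surjective p := fun M _ _ hM => by
    refine ⟨Finsupp.lsum ℕ fun x => (I ^ m).liftQ (LinearMap.toSpanSingleton R M x)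
      (fun a ha => hM a ha x), fun x => ⟨Finsupp.single x (Ideal.Quotient.mk _ 1), ?_⟩⟩
    rw [Finsupp.lsum_single]
    exact one_smul R x
  have hkill : ∀ (M : Type u) [AddCommGroup M] [Module R M] (p : (M →₀ R ⧸ I ^ m) →ₗ[R] M),
      ∀ a ∈ I ^ m, ∀ x : LinearMap.ker p, a • x = 0 := fun M _ _ p a ha x => by
    refine Subtype.ext (Finsupp.ext fun j => ?_)
    change a • (x : M →₀ R ⧸ I ^ m) j = 0
    obtain ⟨r, hr⟩ := Ideal.Quotient.mk_surjective ((x : M →₀ R ⧸ I ^ m) j)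
    rw [← hr]
    exact (Submodule.Quotient.mk_eq_zero _).2 (Ideal.mul_mem_right r _ ha)
  haveI := hF
  have hlift : ∀ j, ∃ c, ∀ ι : Type u, Lifts (F.finsupp ι) I j c := fun j => exists_lifts F I j
  choose cF hcF using hlift
  have hext : ∀ {K : Type u} [AddCommGroup K] [Module R K] (a b : ℕ) (x : K), a ≤ b →
      x ∈ I ^ b • (⊤ : Submodule R K) → x ∈ I ^ a • (⊤ : Submodule R K) := fun a b x hab hx =>
    Submodule.smul_mono (Ideal.pow_le_pow_right hab) le_rfl hx
  induction i with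
  | zero =>
    refine ⟨max m (cF 0), fun M _ _ hM => ?_⟩
    obtain ⟨p, hp⟩ := hcov M hM
    obtain ⟨φ, h₀, h⟩ := exists_chain_map p (F.finsupp M) (Res.ofPR (ProjectiveResolution.of _))
    refine ⟨cone p (F.finsupp M) _ φ hp h₀ h, fun n x hx => ?_⟩
    rcases lt_or_ge n m with hn | hn
    · refine ⟨0, ?_⟩
      rw [Nat.sub_eq_zero_of_le (hn.le.trans (le_max_left _ _)), pow_zero, Ideal.one_eq_top, Submodule.top_smul]
      trivial
    obtain ⟨g, z⟩ := x
    change (F.finsupp M).d 0 g + φ 0 z ∈ _ at hx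
    have h1 : (F.finsupp M).ε ((F.finsupp M).d 0 g + φ 0 z) ∈ I ^ n • (⊤ : Submodule R _) :=
      map_mem_smul_top (F.finsupp M).ε _ hx
    rw [map_add, h₀, (F.finsupp M).exact₀.apply_apply_eq_zero, zero_add] at h1
    have hbot : (I ^ n • ⊤ : Submodule R (M →₀ R ⧸ I ^ m)) ≤ ⊥ :=
      Submodule.smul_le.2 fun a ha y _ => by
        rw [Submodule.mem_bot]
        refine Finsupp.ext fun j => ?_
        change a • y j = 0
        obtain ⟨r, hr⟩ := Ideal.Quotient.mk_surjective (y j)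
        rw [← hr]
        exact (Submodule.Quotient.mk_eq_zero _).2 (Ideal.mul_mem_right r _ (Ideal.pow_le_pow_right hn ha))
    obtain ⟨z', rfl⟩ := (Res.exact₀ _ z).1 (Subtype.ext ((Submodule.mem_bot R).1 (hbot h1)))
    rw [← h, ← map_add] at hx
    obtain ⟨g', hg', hgd⟩ := hcF 0 M n (g + φ 1 z') hx
    obtain ⟨g₂, hg₂⟩ := ((F.finsupp M).exact 0 (g + φ 1 z' - g')).1 (by rw [map_sub, hgd, sub_self])
    refine ⟨((g₂, -z') : ↥((F.finsupp M).X 2) × _), ?_⟩
    refine (congrArg (· ∈ _) ?_).mp (map_mem_smul_top (LinearMap.inl R ↥((F.finsupp M).X 1) _) _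
      (hext (n - max m (cF 0)) _ g' (by omega) hg'))
    refine Eq.symm (Prod.ext ?_ ?_)
    · change g - ((F.finsupp M).d 1 g₂ + φ 1 (-z')) = g'
      rw [hg₂, map_neg]; abel
    · let K := Res.ofPR (ProjectiveResolution.of (ModuleCat.of R ↥(LinearMap.ker p)))
      change K.d 0 z' - -(K.d 0 (-z')) = (0 : ↥(K.X 0))
      rw [map_neg, neg_neg, sub_self]
  | succ i ih =>
    obtain ⟨c, hc⟩ := ih
    refine ⟨c + cF (i + 1), fun M _ _ hM => ?_⟩
    obtain ⟨p, hp⟩ := hcov M hM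
    obtain ⟨K, hK⟩ := hc (LinearMap.ker p) (hkill M p)
    obtain ⟨φ, h₀, h⟩ := exists_chain_map p (F.finsupp M) K
    refine ⟨cone p (F.finsupp M) K φ hp h₀ h, fun n x hx => ?_⟩
    obtain ⟨g, z⟩ := x
    have hx1 := map_mem_smul_top
      (LinearMap.fst R ↥((F.finsupp M).X (i + 1)) ↥(K.X i)) (I ^ n) hx
    have hx2 := neg_mem (map_mem_smul_top
      (LinearMap.snd R ↥((F.finsupp M).X (i + 1)) ↥(K.X i)) (I ^ n) hx)
    change (F.finsupp M).d (i + 1) g + φ (i + 1) z ∈ I ^ n • (⊤ : Submodule R _) at hx1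
    change -(-(K.d i z)) ∈ I ^ n • (⊤ : Submodule R _) at hx2
    rw [neg_neg] at hx2
    obtain ⟨y, hy⟩ := hK n z hx2
    have hφ := map_mem_smul_top (φ (i + 1)) _ hy
    have hg : (F.finsupp M).d (i + 1) (g + φ (i + 2) y) ∈ I ^ (n - c) • (⊤ : Submodule R _) := by
      have := sub_mem (hext (n - c) n _ (by omega) hx1) hφ
      convert this using 1
      rw [map_add, h, map_sub]; abel
    obtain ⟨g', hg', hgd⟩ := hcF (i + 1) M (n - c) (g + φ (i + 2) y) hg
    obtain ⟨g₂, hg₂⟩ := ((F.finsupp M).exact (i + 1) (g + φ (i + 2) y - g')).1 (by rw [map_sub, hgd, sub_self])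
    refine ⟨((g₂, -y) : ↥((F.finsupp M).X (i + 3)) × ↥(K.X (i + 2))), ?_⟩
    have ha := map_mem_smul_top (LinearMap.inl R ↥((F.finsupp M).X (i + 2)) ↥(K.X (i + 1))) _
      (hext (n - (c + cF (i + 1))) _ g' (by omega) hg')
    have hb := map_mem_smul_top (LinearMap.inr R ↥((F.finsupp M).X (i + 2)) ↥(K.X (i + 1))) _
      (hext (n - (c + cF (i + 1))) _ _ (by omega) hy)
    have hsum := add_mem ha hb
    refine (congrArg (· ∈ _) ?_).mp hsum
    refine Prod.ext ?_ ?_
    · change g' + 0 = g - ((F.finsupp M).d (i + 2) g₂ + φ (i + 2) (-y))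
      rw [hg₂, map_neg]; abel
    · change 0 + (z - K.d (i + 1) y) = z - -(K.d (i + 1) (-y))
      rw [map_neg, neg_neg, zero_add]

end Groth.Agent.H6Tor
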