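import Groth.Agent.H6Tor.Kills
import Groth.Agent.H9Misc.TorBalance
import Groth.Prelude.Def_DRing2
import Mathlib

/-!
# From killing maps to vanishing of maps of `Tor`
-/

universe u

open CategoryTheory CategoryTheory.Limits MonoidalCategory TensorProduct

namespace Groth.Agent.H6Tor

open Groth.Agent.H9Misc

variable {R : Type u} [CommRing R]

/-- A projective resolution as an exact complex of flat modules. -/
noncomputable def FRes.ofResolution {M : ModuleCat.{u} R} (P : ProjectiveResolution M) : FRes R where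
  X n := P.complex.X n
  d n := (P.complex.d (n + 1) n).hom
  flat n :=
    haveI : Module.Projective R (P.complex.X n) := (IsProjective.iff_projective _).2 (P.projective n)
    Module.Flat.of_projective
  exact n := (ShortComplex.ShortExact.moduleCat_exact_iff_function_exact _).1 (P.exact_succ n)

/-- Every homology class is the class of a cycle. -/
theorem exists_cycle {K : ChainComplex (ModuleCat.{u} R) ℕ} (j : ℕ)
    (h : ↥(K.homology (j + 1))) :
    ∃ z : ↥(K.cycles (j + 1)), (K.homologyπ (j + 1)).hom z = h ∧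
      (K.d (j + 1) j).hom ((K.iCycles (j + 1)).hom z) = 0 := by
  obtain ⟨z, hz⟩ := (ModuleCat.epi_iff_surjective _).1
    (inferInstance : Epi (K.homologyπ (j + 1))) h
  exact ⟨z, hz, by rw [← LinearMap.comp_apply, ← ModuleCat.hom_comp, K.iCycles_d]; rfl⟩

/-- A cycle which is a boundary has zero class. -/
theorem homologyπ_eq_zero {K : ChainComplex (ModuleCat.{u} R) ℕ} (j : ℕ)
    (z : ↥(K.cycles (j + 1))) (y : ↥(K.X (j + 1 + 1)))
    (hy : (K.d (j + 1 + 1) (j + 1)).hom y = (K.iCycles (j + 1)).hom z) :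
    (K.homologyπ (j + 1)).hom z = 0 := by
  have : z = (K.toCycles (j + 1 + 1) (j + 1)).hom y := by
    apply (ModuleCat.mono_iff_injective _).1 (inferInstance : Mono (K.iCycles (j + 1)))
    rw [← hy, ← LinearMap.comp_apply, ← ModuleCat.hom_comp, K.toCycles_i]
  rw [this, ← LinearMap.comp_apply, ← ModuleCat.hom_comp, K.toCycles_comp_homologyπ]
  rfl

variable {M N N' : Type u} [AddCommGroup M] [Module R M] [AddCommGroup N] [Module R N]
  [AddCommGroup N'] [Module R N']

/-- The map of Tor is zero if, in some resolution, cycles go to boundaries. -/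
theorem tor_map_eq_zero_of (P : ProjectiveResolution (ModuleCat.of R M)) (j : ℕ) (f : N →ₗ[R] N')
    (h : ∀ x : ↥(P.complex.X (j + 1)) ⊗[R] N, (P.complex.d (j + 1) j).hom.rTensor N x = 0 →
      ∃ y, (P.complex.d (j + 1 + 1) (j + 1)).hom.rTensor N' y = f.lTensor _ x) :
    ((Tor (ModuleCat.{u} R) (j + 1)).obj (ModuleCat.of R M)).map (ModuleCat.ofHom f) = 0 := by
  rw [← cancel_mono (TorBalance.torIso' P (ModuleCat.of R N') (j + 1)).hom, zero_comp,
    TorBalance.torIso'_natural P (ModuleCat.ofHom f) (j + 1)]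
  refine Eq.trans ?_ (comp_zero (f := (TorBalance.torIso' P (ModuleCat.of R N) (j + 1)).hom))
  congr 1
  refine ModuleCat.hom_ext (LinearMap.ext fun c => ?_)
  obtain ⟨z, rfl, hz⟩ := exists_cycle j c
  rw [← LinearMap.comp_apply, ← ModuleCat.hom_comp, HomologicalComplex.homologyπ_naturality,
    ModuleCat.hom_comp, LinearMap.comp_apply]
  obtain ⟨y, hy⟩ := h _ hz
  refine homologyπ_eq_zero j _ y (hy.trans ?_)
  rw [← LinearMap.comp_apply, ← ModuleCat.hom_comp, HomologicalComplex.cyclesMap_i,
    ModuleCat.hom_comp, LinearMap.comp_apply]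
  rfl

theorem tor_map_eq_zero_of_kills {j : ℕ} {f : N →ₗ[R] N'} (h : Kills j f) :
    ((Tor (ModuleCat.{u} R) (j + 1)).obj (ModuleCat.of R M)).map (ModuleCat.ofHom f) = 0 :=
  let P := ProjectiveResolution.of (ModuleCat.of R M)
  tor_map_eq_zero_of P j f fun x hx => h (FRes.ofResolution P) x hx

/-- A scalar which kills cycles modulo boundaries kills Tor. -/
theorem smul_tor_eq_zero_of_kills {j : ℕ} (r : R) (h : Kills j (r • LinearMap.id : N →ₗ[R] N))
    (x : DRing.Tor R (j + 1) M N) : r • x = 0 := by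
  let P := ProjectiveResolution.of (ModuleCat.of R M)
  let e := (TorBalance.torIso' P (ModuleCat.of R N) (j + 1)).toLinearEquiv
  apply e.injective
  rw [map_smul, map_zero]
  obtain ⟨z, hz, hd⟩ := exists_cycle j (e x)
  obtain ⟨y, hy⟩ := h (FRes.ofResolution P) _ hd
  refine (congrArg (r • ·) hz).symm.trans ((map_smul _ r z).symm.trans ?_)
  refine homologyπ_eq_zero j _ y ?_
  rw [map_smul]
  refine hy.trans ?_
  rw [LinearMap.lTensor_smul, LinearMap.lTensor_id]
  rfl

theorem smul_tor_symm_eq_zero_of_kills {j : ℕ} (r : R) (h : Kills j (r • LinearMap.id : N →ₗ[R] N))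
    (x : DRing.Tor R (j + 1) N M) : r • x = 0 := by
  let e := (TorBalance.torSymm (ModuleCat.of R N) (ModuleCat.of R M) (j + 1)).toLinearEquiv
  apply e.injective
  rw [map_smul, map_zero]
  exact smul_tor_eq_zero_of_kills r h _

end Groth.Agent.H6Tor
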