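import Groth.Agent.CAlgOdd.FiniteResolution
import Groth.Agent.CAlgOdd.TorSymm.Main
import Groth.Agent.CxLib.Homology
import Groth.Prelude.Def_Wider
import Mathlib

/-!
# Maps killing Ext against maps killing Tor
-/

universe u

open CategoryTheory MonoidalCategory TensorProduct

attribute [local instance] HasDerivedCategory.standard

namespace Groth.Agent.H6Tor

variable {R : Type u} [CommRing R] {M M' : Type u} [AddCommGroup M] [Module R M] [AddCommGroup M'] [Module R M']

variable {P : ProjectiveResolution (ModuleCat.of R M)} {P' : ProjectiveResolution (ModuleCat.of R M')}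
  {α : M →ₗ[R] M'} (φ : ProjectiveResolution.Hom P P' (ModuleCat.ofHom α))

omit [CommRing R] [AddCommGroup M] [AddCommGroup M'] in
theorem eq_zero_iff_of_sq {𝒞 : Type*} [Category 𝒞] [Limits.HasZeroMorphisms 𝒞] {X Y X' Y' : 𝒞}
    (a : X ≅ Y) (b : X' ≅ Y') (f : X ⟶ X') (g : Y ⟶ Y') (h : f ≫ b.hom = a.hom ≫ g) :
    f = 0 ↔ g = 0 := by
  constructor
  · intro hf
    rw [hf, Limits.zero_comp] at h
    rw [← cancel_epi a.hom, Limits.comp_zero, ← h]
  · intro hg
    rw [hg, Limits.comp_zero] at h
    rw [← cancel_mono b.hom, Limits.zero_comp, h]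

/-- Tor killed, on cycles. -/
def TorKilled (e : ℕ) : Prop :=
  ∀ (N : Type u) [AddCommGroup N] [Module R N] (t : N ⊗[R] ↥(P.complex.X (e + 1))),
    (P.complex.d (e + 1) e).hom.lTensor N t = 0 →
      ∃ s, (P'.complex.d (e + 1 + 1) (e + 1)).hom.lTensor N s = (φ.hom.f (e + 1)).hom.lTensor N t

/-- Ext killed, on cocycles. -/
def ExtKilled (e : ℕ) : Prop :=
  ∀ (N : Type u) [AddCommGroup N] [Module R N] (x : ↥(P'.complex.X (e + 1)) →ₗ[R] N),
    x ∘ₗ (P'.complex.d (e + 1 + 1) (e + 1)).hom = 0 →
      ∃ y : ↥(P.complex.X e) →ₗ[R] N, y ∘ₗ (P.complex.d (e + 1) e).hom = x ∘ₗ (φ.hom.f (e + 1)).hom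

theorem torKilled_iff (e : ℕ) : TorKilled φ e ↔ ∀ (N : Type u) [AddCommGroup N] [Module R N],
    ((CategoryTheory.Tor (ModuleCat.{u} R) (e + 1)).map (ModuleCat.ofHom α)).app (ModuleCat.of R N) = 0 := by
  obtain ⟨η⟩ := CAlgOdd.TorSymm.nonempty_flip.{u} (R := R) (e + 1)
  refine forall_congr' fun N => forall_congr' fun _ => forall_congr' fun _ => ?_
  let G := (tensoringLeft (ModuleCat.{u} R)).obj (ModuleCat.of R N)
  let C := (G.mapHomologicalComplex (ComplexShape.down ℕ)).obj P.complex
  let C' := (G.mapHomologicalComplex (ComplexShape.down ℕ)).obj P'.complex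
  let f : C ⟶ C' := (G.mapHomologicalComplex (ComplexShape.down ℕ)).map φ.hom
  have hnat : ((Tor (ModuleCat.{u} R) (e + 1)).obj (ModuleCat.of R N)).map (ModuleCat.ofHom α) ≫
      (P'.isoLeftDerivedObj G (e + 1)).hom =
      (P.isoLeftDerivedObj G (e + 1)).hom ≫ HomologicalComplex.homologyMap f (e + 1) :=
    ProjectiveResolution.isoLeftDerivedObj_hom_naturality (ModuleCat.ofHom α) P P' φ.hom
      (by simpa using φ.hom_f_zero_comp_π_f_zero) G (e + 1)
  have hflip : ((CategoryTheory.Tor (ModuleCat.{u} R) (e + 1)).map (ModuleCat.ofHom α)).app (ModuleCat.of R N) = 0 ↔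
      ((Tor (ModuleCat.{u} R) (e + 1)).obj (ModuleCat.of R N)).map (ModuleCat.ofHom α) = 0 := by
    have hn : ((Tor (ModuleCat.{u} R) (e + 1)).map (ModuleCat.ofHom α)).app (ModuleCat.of R N) ≫
        (η.hom.app (ModuleCat.of R M')).app (ModuleCat.of R N) =
        (η.hom.app (ModuleCat.of R M)).app (ModuleCat.of R N) ≫
          ((Tor (ModuleCat.{u} R) (e + 1)).obj (ModuleCat.of R N)).map (ModuleCat.ofHom α) :=
      congrArg (fun t => t.app (ModuleCat.of R N)) (η.hom.naturality (ModuleCat.ofHom α))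
    exact eq_zero_iff_of_sq ((η.app (ModuleCat.of R M)).app (ModuleCat.of R N))
      ((η.app (ModuleCat.of R M')).app (ModuleCat.of R N)) _ _ hn
  refine Iff.trans ?_ ((eq_zero_iff_of_sq (P.isoLeftDerivedObj G (e + 1))
    (P'.isoLeftDerivedObj G (e + 1)) _ _ hnat).symm.trans hflip.symm)
  constructor
  · intro h
    refine ModuleCat.hom_ext (LinearMap.ext fun c => ?_)
    obtain ⟨z, rfl⟩ := (ModuleCat.epi_iff_surjective _).1 (inferInstance : Epi (C.homologyπ (e + 1))) c
    rw [CxLib.homologyMap_homologyπ]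
    refine (CxLib.homologyπ_eq_zero_iff C' (e + 1) (e + 1 + 1) (by simp) _).2 ?_
    rw [CxLib.iCycles_cyclesMap]
    exact h ((C.iCycles (e + 1)).hom z) (by
      change (C.d (e + 1) e).hom ((C.iCycles (e + 1)).hom z) = 0
      rw [← LinearMap.comp_apply, ← ModuleCat.hom_comp, C.iCycles_d]
      rfl)
  · intro hf t ht
    obtain ⟨z, hz⟩ := CxLib.exists_iCycles_eq C (e + 1) e (by simp) t ht
    have h0 : (C'.homologyπ (e + 1)).hom ((HomologicalComplex.cyclesMap f (e + 1)).hom z) = 0 := by
      rw [← CxLib.homologyMap_homologyπ, show HomologicalComplex.homologyMap f (e + 1) = 0 from hf]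
      rfl
    obtain ⟨w, hw⟩ := (CxLib.homologyπ_eq_zero_iff C' (e + 1) (e + 1 + 1) (by simp) _).1 h0
    rw [CxLib.iCycles_cyclesMap, hz] at hw
    exact ⟨w, hw⟩

theorem extKilled_iff (e : ℕ) : ExtKilled φ e ↔ ∀ (N : Type u) [AddCommGroup N] [Module R N]
    (ψ : Dual.inD R M' ⟶ (Dual.inD R N)⟦((e : ℤ) + 1)⟧),
    (DerivedCategory.singleFunctor (ModuleCat.{u} R) 0).map (ModuleCat.ofHom α) ≫ ψ = 0 := by
  refine forall_congr' fun N => forall_congr' fun _ => forall_congr' fun _ => ?_
  have key : ∀ β : Abelian.Ext (ModuleCat.of R M') (ModuleCat.of R N) (e + 1),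
      ((Abelian.Ext.mk₀ (ModuleCat.ofHom α)).comp β (zero_add (e + 1))).hom =
        (DerivedCategory.singleFunctor (ModuleCat.{u} R) 0).map (ModuleCat.ofHom α) ≫ β.hom := fun β => by
    rw [Abelian.Ext.comp_hom, Abelian.Ext.mk₀_hom, ShiftedHom.mk₀_comp]
  constructor
  · intro h ψ
    obtain ⟨β, hβ⟩ := (Abelian.Ext.homEquiv (X := ModuleCat.of R M') (Y := ModuleCat.of R N) (n := e + 1)).surjective ψ
    obtain ⟨f, hf, rfl⟩ := P'.extMk_surjective β (e + 1 + 1) rfl
    obtain ⟨y, hy⟩ := h f.hom (congrArg ModuleCat.Hom.hom hf)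
    have h0 : (Abelian.Ext.mk₀ (ModuleCat.ofHom α)).comp (P'.extMk f (e + 1 + 1) rfl hf) (zero_add (e + 1)) = 0 := by
      rw [ProjectiveResolution.mk₀_comp_extMk f _ rfl hf φ, ProjectiveResolution.extMk_eq_zero_iff _ _ _ _ _ e rfl]
      exact ⟨ModuleCat.ofHom y, ModuleCat.hom_ext hy⟩
    have := key (P'.extMk f (e + 1 + 1) rfl hf)
    rw [h0, Abelian.Ext.zero_hom] at this
    rw [← hβ]
    exact this.symm
  · intro h x hx
    let f : P'.complex.X (e + 1) ⟶ ModuleCat.of R N := ModuleCat.ofHom x
    have hf : P'.complex.d (e + 1 + 1) (e + 1) ≫ f = 0 := ModuleCat.hom_ext hx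
    have h0 : (Abelian.Ext.mk₀ (ModuleCat.ofHom α)).comp (P'.extMk f (e + 1 + 1) rfl hf) (zero_add (e + 1)) = 0 := by
      apply Abelian.Ext.ext
      rw [key, Abelian.Ext.zero_hom]
      exact h _
    rw [ProjectiveResolution.mk₀_comp_extMk f _ rfl hf φ, ProjectiveResolution.extMk_eq_zero_iff _ _ _ _ _ e rfl] at h0
    obtain ⟨y, hy⟩ := h0
    exact ⟨y.hom, congrArg ModuleCat.Hom.hom hy⟩

/-- Evaluation pairing between homomorphisms into a module and tensors with its character module. -/
noncomputable def pair {N X : Type u} [AddCommGroup N] [Module R N] [AddCommGroup X] [Module R X] :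
    CharacterModule N ⊗[R] X →ₗ[R] CharacterModule (X →ₗ[R] N) :=
  TensorProduct.lift (LinearMap.mk₂ R
    (fun g p => (g : CharacterModule N).comp (LinearMap.applyₗ p : (X →ₗ[R] N) →ₗ[R] N).toAddMonoidHom)
    (fun _ _ _ => rfl)
    (fun r g p => DFunLike.ext _ _ fun y => by
      rw [CharacterModule.smul_apply]
      change g (r • y p) = g ((r • y) p)
      rfl)
    (fun g p q => DFunLike.ext _ _ fun y => (congrArg g (map_add y p q)).trans (map_add g _ _))
    (fun r g p => DFunLike.ext _ _ fun y => by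
      rw [CharacterModule.smul_apply]
      change g (y (r • p)) = g ((r • y) p)
      rw [map_smul]
      rfl))

theorem pair_tmul {N X : Type u} [AddCommGroup N] [Module R N] [AddCommGroup X] [Module R X]
    (g : CharacterModule N) (p : X) (y : X →ₗ[R] N) : pair (g ⊗ₜ[R] p) y = g (y p) := rfl

theorem pair_lTensor {N X Y : Type u} [AddCommGroup N] [Module R N] [AddCommGroup X] [Module R X]
    [AddCommGroup Y] [Module R Y] (d : X →ₗ[R] Y) (t : CharacterModule N ⊗[R] X) (y : Y →ₗ[R] N) :
    pair (d.lTensor _ t) y = pair t (y ∘ₗ d) := by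
  induction t using TensorProduct.induction_on with
  | zero => simp only [map_zero]; rfl
  | tmul g p => rfl
  | add a b ha hb =>
    simp only [map_add]
    exact congrArg₂ (· + ·) ha hb

/-- The pairing is perfect on finite projective modules. -/
theorem pair_bijective {N X : Type u} [AddCommGroup N] [Module R N] [AddCommGroup X] [Module R X]
    [Module.Finite R X] [Module.Projective R X] :
    Function.Bijective (pair : CharacterModule N ⊗[R] X →ₗ[R] CharacterModule (X →ₗ[R] N)) := by
  obtain ⟨k, q, i, -, -, hqi⟩ := Module.Finite.exists_comp_eq_id_of_projective R X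
  let b : Fin k → X := fun j => q (Pi.single j 1)
  let c : Fin k → (X →ₗ[R] R) := fun j => LinearMap.proj j ∘ₗ i
  let back : CharacterModule (X →ₗ[R] N) → CharacterModule N ⊗[R] X := fun χ =>
    ∑ j, (χ.comp (LinearMap.smulRightₗ (c j) : N →ₗ[R] X →ₗ[R] N).toAddMonoidHom : CharacterModule N) ⊗ₜ[R] b j
  have hx : ∀ p : X, p = ∑ j, c j p • b j := fun p => by
    classical
    have := LinearMap.congr_fun hqi p
    rw [LinearMap.comp_apply, LinearMap.id_apply] at this
    conv_lhs => rw [← this, pi_eq_sum_univ' (i p), map_sum]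
    exact Finset.sum_congr rfl fun j _ => map_smul q _ _
  refine ⟨fun s s' h => ?_, fun χ => ⟨back χ, ?_⟩⟩
  · suffices ∀ s : CharacterModule N ⊗[R] X, back (pair s) = s by rw [← this s, h, this s']
    intro s
    induction s using TensorProduct.induction_on with
    | zero =>
      refine Finset.sum_eq_zero fun j _ => ?_
      rw [map_zero]
      exact TensorProduct.zero_tmul _ _
    | tmul g p =>
      conv_rhs => rw [hx p, TensorProduct.tmul_sum]
      refine Finset.sum_congr rfl fun j _ => ?_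
      rw [TensorProduct.tmul_smul, TensorProduct.smul_tmul']
      congr 1
    | add a b ha hb =>
      conv_rhs => rw [← ha, ← hb]
      rw [map_add]
      refine Eq.trans ?_ Finset.sum_add_distrib
      exact Finset.sum_congr rfl fun j _ =>
        TensorProduct.add_tmul (R := R) (M := CharacterModule N)
          ((pair a : CharacterModule (X →ₗ[R] N)).comp (LinearMap.smulRightₗ (c j)).toAddMonoidHom)
          ((pair b : CharacterModule (X →ₗ[R] N)).comp (LinearMap.smulRightₗ (c j)).toAddMonoidHom) _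
  · refine DFunLike.ext _ _ fun y => ?_
    simp only [back, map_sum]
    refine (map_sum (AddMonoidHom.eval y : CharacterModule (X →ₗ[R] N) →+ AddCircle (1 : ℚ)) _ _).trans ?_
    change ∑ j, χ (LinearMap.smulRightₗ (c j) (y (b j))) = χ y
    rw [← map_sum]
    congr 1
    refine LinearMap.ext fun p => ?_
    rw [LinearMap.sum_apply]
    conv_rhs => rw [hx p, map_sum]
    exact Finset.sum_congr rfl fun j _ => (map_smul y _ _).symm

theorem torKilled_of_extKilled {e : ℕ} (h : ExtKilled φ e) : TorKilled φ e := by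
  intro N _ _ t ht
  by_contra hne
  push Not at hne
  let D := (P'.complex.d (e + 1 + 1) (e + 1)).hom.lTensor N
  obtain ⟨c, hc⟩ := CharacterModule.exists_character_apply_ne_zero_of_ne_zero
    (a := Submodule.Quotient.mk (p := LinearMap.range D) ((φ.hom.f (e + 1)).hom.lTensor N t))
    (by
      rw [Ne, Submodule.Quotient.mk_eq_zero]
      rintro ⟨s, hs⟩
      exact hne s hs)
  let χ : CharacterModule (N ⊗[R] ↥(P'.complex.X (e + 1))) :=
    c.comp (LinearMap.range D).mkQ.toAddMonoidHom
  let x : ↥(P'.complex.X (e + 1)) →ₗ[R] CharacterModule N :=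
    { toFun := fun p => χ.comp ((TensorProduct.mk R N _).flip p).toAddMonoidHom
      map_add' := fun p q => DFunLike.ext _ _ fun n => (congrArg χ (TensorProduct.tmul_add n p q)).trans (map_add χ _ _)
      map_smul' := fun r p => DFunLike.ext _ _ fun n => by
        rw [RingHom.id_apply, CharacterModule.smul_apply]
        exact congrArg χ (TensorProduct.smul_tmul r n p).symm }
  have hx : x ∘ₗ (P'.complex.d (e + 1 + 1) (e + 1)).hom = 0 :=
    LinearMap.ext fun p => DFunLike.ext _ _ fun n => by
      change c (Submodule.Quotient.mk (D (n ⊗ₜ[R] p))) = 0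
      rw [(Submodule.Quotient.mk_eq_zero _).2 (LinearMap.mem_range_self _ _), map_zero]
  obtain ⟨y, hy⟩ := h (CharacterModule N) x hx
  let Y : N ⊗[R] ↥(P.complex.X e) →+ AddCircle (1 : ℚ) :=
    TensorProduct.liftAddHom (AddMonoidHom.flip y.toAddMonoidHom) (fun r n p => by
      change y p (r • n) = y (r • p) n
      rw [LinearMap.map_smul]
      exact (CharacterModule.smul_apply _ _ _).symm)
  have key : ∀ s : N ⊗[R] ↥(P.complex.X (e + 1)),
      χ ((φ.hom.f (e + 1)).hom.lTensor N s) = Y ((P.complex.d (e + 1) e).hom.lTensor N s) := fun s => by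
    induction s using TensorProduct.induction_on with
    | zero => simp
    | tmul n p => exact (DFunLike.congr_fun (LinearMap.congr_fun hy p) n).symm
    | add a b ha hb => simp only [map_add, ha, hb]
  apply hc
  have := key t
  rw [ht, map_zero] at this
  exact this

theorem extKilled_of_torKilled [∀ n, Module.Finite R ↥(P.complex.X n)] {e : ℕ} (h : TorKilled φ e) :
    ExtKilled φ e := by
  intro N _ _ x hx
  haveI : ∀ n, Module.Projective R ↥(P.complex.X n) := fun n => (IsProjective.iff_projective _).2 (P.projective n)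
  let D : (↥(P.complex.X e) →ₗ[R] N) →ₗ[R] (↥(P.complex.X (e + 1)) →ₗ[R] N) :=
    LinearMap.lcomp R N (P.complex.d (e + 1) e).hom
  by_contra hne
  push Not at hne
  obtain ⟨c, hc⟩ := CharacterModule.exists_character_apply_ne_zero_of_ne_zero
    (a := Submodule.Quotient.mk (p := LinearMap.range D) (x ∘ₗ (φ.hom.f (e + 1)).hom))
    (by
      rw [Ne, Submodule.Quotient.mk_eq_zero]
      rintro ⟨y, hy⟩
      exact hne y hy)
  obtain ⟨t, ht⟩ := (pair_bijective (R := R) (N := N) (X := ↥(P.complex.X (e + 1)))).2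
    (c.comp (LinearMap.range D).mkQ.toAddMonoidHom)
  have hdt : (P.complex.d (e + 1) e).hom.lTensor (CharacterModule N) t = 0 := by
    apply (pair_bijective (R := R) (N := N) (X := ↥(P.complex.X e))).1
    refine DFunLike.ext _ _ fun y => ?_
    rw [pair_lTensor, ht, map_zero]
    change c (Submodule.Quotient.mk (D y)) = 0
    rw [(Submodule.Quotient.mk_eq_zero _).2 (LinearMap.mem_range_self _ _), map_zero]
  obtain ⟨s, hs⟩ := h (CharacterModule N) t hdt
  apply hc
  change (c.comp (LinearMap.range D).mkQ.toAddMonoidHom : CharacterModule _) (x ∘ₗ (φ.hom.f (e + 1)).hom) = 0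
  rw [← ht]
  refine (pair_lTensor _ t x).symm.trans ?_
  rw [← hs]
  refine (pair_lTensor _ s x).trans ?_
  rw [hx]
  exact map_zero _

end Groth.Agent.H6Tor
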