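import Mathlib.LinearAlgebra.TensorProduct.RightExactness
import Mathlib.RingTheory.Flat.Basic
import Mathlib.RingTheory.Flat.Stability
import Mathlib.Algebra.Category.ModuleCat.Basic

/-!
# Linear maps which kill higher torsion products, in terms of flat exact complexes
-/

universe u

open TensorProduct

namespace Groth.Agent.H6Tor

variable {R : Type u} [CommRing R]

/-- A complex of flat modules which is exact away from degree zero. -/
structure FRes (R : Type u) [CommRing R] where
  X : ℕ → ModuleCat.{u} R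
  d : ∀ n, ↥(X (n + 1)) →ₗ[R] ↥(X n)
  flat : ∀ n, Module.Flat R ↥(X n)
  exact : ∀ n, Function.Exact (d (n + 1)) (d n)

attribute [instance] FRes.flat

variable {N N' N'' : Type u} [AddCommGroup N] [Module R N] [AddCommGroup N'] [Module R N']
  [AddCommGroup N''] [Module R N'']

/-- The map induced by `f` on torsion products in degree `n + 1` vanishes, for every module. -/
def Kills (n : ℕ) (f : N →ₗ[R] N') : Prop :=
  ∀ (P : FRes R) (x : ↥(P.X (n + 1)) ⊗[R] N), (P.d n).rTensor N x = 0 →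
    ∃ y : ↥(P.X (n + 1 + 1)) ⊗[R] N', (P.d (n + 1)).rTensor N' y = f.lTensor _ x

/-- `f` kills the torsion products in all degrees above `d`. -/
def ATor (d : ℕ) (f : N →ₗ[R] N') : Prop := ∀ n, d ≤ n → Kills n f

omit [AddCommGroup N''] [Module R N''] in
theorem rTensor_lTensor_apply {X Y : Type u} [AddCommGroup X] [Module R X] [AddCommGroup Y]
    [Module R Y] (g : X →ₗ[R] Y) (f : N →ₗ[R] N') (x : X ⊗[R] N) :
    g.rTensor N' (f.lTensor X x) = f.lTensor Y (g.rTensor N x) := by
  rw [← LinearMap.comp_apply, ← LinearMap.comp_apply, LinearMap.rTensor_comp_lTensor,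
    LinearMap.lTensor_comp_rTensor]

theorem Kills.comp_left {n : ℕ} {f : N →ₗ[R] N'} (h : Kills n f) (g : N' →ₗ[R] N'') :
    Kills n (g ∘ₗ f) := fun P x hx => by
  obtain ⟨y, hy⟩ := h P x hx
  exact ⟨g.lTensor _ y, by rw [rTensor_lTensor_apply, hy, LinearMap.lTensor_comp_apply]⟩

theorem Kills.comp_right {n : ℕ} {f : N' →ₗ[R] N''} (h : Kills n f) (g : N →ₗ[R] N') :
    Kills n (f ∘ₗ g) := fun P x hx => by
  rw [LinearMap.lTensor_comp_apply]
  exact h P (g.lTensor _ x) (by rw [rTensor_lTensor_apply, hx, map_zero])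

theorem kills_of_flat [Module.Flat R N] (n : ℕ) (f : N →ₗ[R] N') : Kills n f := by
  refine Kills.comp_left (f := LinearMap.id) (fun P x hx => ?_) f
  obtain ⟨y, hy⟩ := (Module.Flat.rTensor_exact N (P.exact n) x).1 hx
  exact ⟨y, by simpa using hy⟩

theorem ATor.comp_left {d : ℕ} {f : N →ₗ[R] N'} (h : ATor d f) (g : N' →ₗ[R] N'') :
    ATor d (g ∘ₗ f) := fun n hn => (h n hn).comp_left g

theorem ATor.comp_right {d : ℕ} {f : N' →ₗ[R] N''} (h : ATor d f) (g : N →ₗ[R] N') :
    ATor d (f ∘ₗ g) := fun n hn => (h n hn).comp_right g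

theorem ATor.mono {d d' : ℕ} {f : N →ₗ[R] N'} (h : ATor d f) (hd : d ≤ d') : ATor d' f :=
  fun n hn => h n (hd.trans hn)

/-- Tensoring a complex with a flat module. -/
noncomputable def FRes.tensor (P : FRes R) (L : Type u) [AddCommGroup L] [Module R L]
    [Module.Flat R L] : FRes R where
  X n := ModuleCat.of R (↥(P.X n) ⊗[R] L)
  d n := (P.d n).rTensor L
  flat n := inferInstanceAs (Module.Flat R (↥(P.X n) ⊗[R] L))
  exact n := Module.Flat.rTensor_exact L (P.exact n)

theorem Kills.lTensor {n : ℕ} {f : N →ₗ[R] N'} (h : Kills n f) (L : Type u) [AddCommGroup L]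
    [Module R L] [Module.Flat R L] : Kills n (f.lTensor L) := fun P x hx => by
  obtain ⟨y, hy⟩ := h (P.tensor L) ((TensorProduct.assoc R _ L N).symm x) (by
    change ((P.d n).rTensor L).rTensor N _ = 0
    rw [LinearMap.rTensor_tensor] at hx
    simpa [LinearMap.comp_apply] using hx)
  refine ⟨TensorProduct.assoc R _ L N' y, ?_⟩
  have e : ∀ (i : ℕ) (z : (↥(P.X i) ⊗[R] L) ⊗[R] N), TensorProduct.assoc R _ L N' (f.lTensor _ z) =
      (f.lTensor L).lTensor _ (TensorProduct.assoc R _ L N z) := fun i z => by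
    induction z using TensorProduct.induction_on with
    | zero => simp
    | tmul w m =>
      induction w using TensorProduct.induction_on with
      | zero => simp
      | tmul a b => simp
      | add a b ha hb => simp only [add_tmul, map_add, ha, hb]
    | add a b ha hb => simp only [map_add, ha, hb]
  rw [LinearMap.rTensor_tensor, LinearMap.comp_apply, LinearMap.comp_apply,
    LinearEquiv.coe_coe, LinearEquiv.coe_coe, LinearEquiv.symm_apply_apply]
  rw [show ((P.d (n + 1)).rTensor L).rTensor N' y = _ from hy]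
  exact (e _ _).trans (by rw [LinearEquiv.apply_symm_apply])

theorem ATor.lTensor {d : ℕ} {f : N →ₗ[R] N'} (h : ATor d f) (L : Type u) [AddCommGroup L]
    [Module R L] [Module.Flat R L] : ATor d (f.lTensor L) := fun n hn => (h n hn).lTensor L

theorem exists_comp_eq_of_ker_le {X Y Z : Type u} [AddCommGroup X] [Module R X] [AddCommGroup Y]
    [Module R Y] [AddCommGroup Z] [Module R Z] (f : X →ₗ[R] Y) (hf : Function.Surjective f)
    (g : X →ₗ[R] Z) (hg : LinearMap.ker f ≤ LinearMap.ker g) : ∃ h : Y →ₗ[R] Z, h ∘ₗ f = g := by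
  refine ⟨(LinearMap.ker f).liftQ g hg ∘ₗ (f.quotKerEquivOfSurjective hf).symm.toLinearMap, ?_⟩
  refine LinearMap.ext fun x => ?_
  have : (f.quotKerEquivOfSurjective hf).symm (f x) = Submodule.Quotient.mk x := by
    rw [LinearEquiv.symm_apply_eq]; rfl
  simp [this]

/-- Dévissage along a ladder of right exact sequences. -/
theorem kills_of_ladder {n : ℕ} {W W' E E' E'' Q Q' Q'' : Type u}
    [AddCommGroup W] [Module R W] [AddCommGroup W'] [Module R W'] [AddCommGroup E] [Module R E]
    [AddCommGroup E'] [Module R E'] [AddCommGroup E''] [Module R E''] [AddCommGroup Q] [Module R Q]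
    [AddCommGroup Q'] [Module R Q'] [AddCommGroup Q''] [Module R Q'']
    (i : W →ₗ[R] E) (g : E →ₗ[R] Q) (i' : W' →ₗ[R] E') (g' : E' →ₗ[R] Q') (g'' : E'' →ₗ[R] Q'')
    (hi : Function.Injective i) (hex : Function.Exact i g) (hg : Function.Surjective g)
    (h' : g' ∘ₗ i' = 0)
    (a₁ : W →ₗ[R] W') (a : E →ₗ[R] E') (f : Q →ₗ[R] Q') (a' : E' →ₗ[R] E'') (f' : Q' →ₗ[R] Q'')
    (hai : a ∘ₗ i = i' ∘ₗ a₁) (hag : f ∘ₗ g = g' ∘ₗ a) (hag' : f' ∘ₗ g' = g'' ∘ₗ a')
    (h₁ : Kills n a₁) (h₂ : Kills (n + 1) a') : Kills (n + 1) (f' ∘ₗ f) := by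
  intro P x hx
  obtain ⟨e, rfl⟩ := LinearMap.lTensor_surjective _ hg x
  rw [rTensor_lTensor_apply] at hx
  obtain ⟨w, hw⟩ := (lTensor_exact _ hex hg ((P.d (n + 1)).rTensor E e)).1 hx
  have hdw : (P.d n).rTensor W w = 0 := by
    apply Module.Flat.lTensor_preserves_injective_linearMap (M := ↥(P.X n)) i hi
    rw [map_zero, ← rTensor_lTensor_apply, hw, ← LinearMap.comp_apply, ← LinearMap.rTensor_comp,
      (P.exact n).linearMap_comp_eq_zero, LinearMap.rTensor_zero, LinearMap.zero_apply]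
  obtain ⟨v, hv⟩ := h₁ P w hdw
  let e' := a.lTensor _ e - i'.lTensor _ v
  have he' : (P.d (n + 1)).rTensor E' e' = 0 := by
    rw [map_sub, rTensor_lTensor_apply, rTensor_lTensor_apply, hv, ← hw, ← LinearMap.lTensor_comp_apply,
      ← LinearMap.lTensor_comp_apply, hai, sub_self]
  obtain ⟨y, hy⟩ := h₂ P e' he'
  refine ⟨g''.lTensor _ y, ?_⟩
  rw [rTensor_lTensor_apply, hy, ← LinearMap.lTensor_comp_apply, ← hag', ← LinearMap.lTensor_comp_apply,
    LinearMap.comp_assoc, hag]
  simp only [e', map_sub, LinearMap.lTensor_comp_apply]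
  rw [← LinearMap.lTensor_comp_apply _ g' i', h', LinearMap.lTensor_zero, LinearMap.zero_apply,
    map_zero, sub_zero]

end Groth.Agent.H6Tor
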