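import Groth.Agent.H6Tor.Cone
import Mathlib

/-!
# The Koszul resolution of a weakly regular sequence, by iterated cones
-/

universe u

open CategoryTheory TensorProduct

namespace Groth.Agent.H6Tor

variable {A : Type u} [CommRing A]

/-- Moving a resolution along an isomorphism. -/
noncomputable def Res.ofEquiv {M N : Type u} [AddCommGroup M] [Module A M] [AddCommGroup N] [Module A N]
    (P : Res A M) (e : M ≃ₗ[A] N) : Res A N where
  X := P.X
  proj := P.proj
  d := P.d
  ε := e.toLinearMap ∘ₗ P.ε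
  surj := e.surjective.comp P.surj
  exact₀ := fun x => (show e (P.ε x) = 0 ↔ P.ε x = 0 by simp).trans (P.exact₀ x)
  exact := P.exact

/-- The terms of the trivial resolution. -/
def baseX (A : Type u) [CommRing A] : ℕ → ModuleCat.{u} A
  | 0 => ModuleCat.of A A
  | _ + 1 => ModuleCat.of A PUnit.{u + 1}

/-- The trivial resolution of the ring modulo a zero ideal. -/
noncomputable def baseRes (J : Ideal A) (hJ : J = ⊥) : Res A (A ⧸ J) where
  X := baseX A
  proj
    | 0 => inferInstanceAs (Module.Projective A A)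
    | _ + 1 => inferInstanceAs (Module.Projective A PUnit.{u + 1})
  d _ := 0
  ε := J.mkQ
  surj := J.mkQ_surjective
  exact₀ := fun (x : A) => by
    refine (Submodule.Quotient.mk_eq_zero J).trans ?_
    rw [hJ, Ideal.mem_bot]
    exact ⟨fun h => ⟨0, by rw [h]; rfl⟩, fun ⟨_, h⟩ => h.symm⟩
  exact _ := fun (x : PUnit.{u + 1}) => ⟨fun _ => ⟨(PUnit.unit : PUnit.{u + 1}), rfl⟩, fun _ => rfl⟩

/-- The properties of the Koszul resolution used below. -/
structure KData (l : List A) where
  P : Res A (A ⧸ Ideal.ofList l)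
  rank : ∀ n, Nonempty (↥(P.X n) ≃ₗ[A] (Fin (l.length.choose n) → A))
  dmem : ∀ n z, P.d n z ∈ Ideal.ofList l • (⊤ : Submodule A ↥(P.X n))
  top : ∀ k, l.length = k + 1 → ∃ e : ↥(P.X (k + 1)) ≃ₗ[A] A, ∀ (N : Type u) [AddCommGroup N] [Module A N]
    (m : N), (P.d k).rTensor N (e.symm 1 ⊗ₜ[A] m) = 0 ↔ ∀ a ∈ Ideal.ofList l, a • m = 0

theorem kdata_nil : Nonempty (KData ([] : List A)) :=
  ⟨{ P := baseRes _ Ideal.ofList_nil
     rank := fun n => match n with
       | 0 => ⟨(LinearEquiv.funUnique (Fin 1) A A).symm⟩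
       | n + 1 =>
         haveI : IsEmpty (Fin (([] : List A).length.choose (n + 1))) := Fin.isEmpty
         haveI : Subsingleton ↥((baseRes (Ideal.ofList ([] : List A)) Ideal.ofList_nil).X (n + 1)) :=
           inferInstanceAs (Subsingleton PUnit.{u + 1})
         ⟨LinearEquiv.ofSubsingleton _ _⟩
     dmem := fun _ _ => zero_mem _
     top := fun _ h => absurd h (Nat.zero_ne_add_one _) }⟩

theorem smul_mem_top {X : Type u} [AddCommGroup X] [Module A X] {J : Ideal A} {x : A} (hx : x ∈ J) (z : X) :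
    x • z ∈ J • (⊤ : Submodule A X) := Submodule.smul_mem_smul hx trivial

theorem kdata_append {l : List A} {x : A} (D : KData l)
    (hx : IsSMulRegular (A ⧸ Ideal.ofList l) x) : Nonempty (KData (l ++ [x])) := by
  let J := Ideal.ofList l
  let J' := Ideal.ofList (l ++ [x])
  have hJ : J' = J ⊔ Ideal.span {x} := by
    simp only [J', J, Ideal.ofList_append, Ideal.ofList_singleton]
  have hxJ : x ∈ J' := hJ ▸ Ideal.mem_sup_right (Ideal.mem_span_singleton_self x)
  let p : (A ⧸ J) →ₗ[A] (A ⧸ J') := J.mapQ J' LinearMap.id (hJ ▸ le_sup_left)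
  have hp : Function.Surjective p := fun b => by
    obtain ⟨b, rfl⟩ := Submodule.mkQ_surjective J' b
    exact ⟨Submodule.Quotient.mk b, rfl⟩
  let μ : (A ⧸ J) →ₗ[A] LinearMap.ker p := (x • LinearMap.id : (A ⧸ J) →ₗ[A] (A ⧸ J)).codRestrict _
    fun b => by
      obtain ⟨b, rfl⟩ := Submodule.mkQ_surjective J b
      exact (Submodule.Quotient.mk_eq_zero J').2 (Ideal.mul_mem_right _ _ hxJ)
  have hμ : Function.Bijective μ := by
    refine ⟨fun a b h => hx (congrArg Subtype.val h), fun ⟨b, hb⟩ => ?_⟩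
    obtain ⟨b, rfl⟩ := Submodule.mkQ_surjective J b
    have hb' : b ∈ J' := (Submodule.Quotient.mk_eq_zero J').1 hb
    rw [hJ] at hb'
    obtain ⟨j, hj, s, hs, rfl⟩ := Submodule.mem_sup.1 hb'
    obtain ⟨c, rfl⟩ := Ideal.mem_span_singleton'.1 hs
    refine ⟨Submodule.Quotient.mk c, Subtype.ext ?_⟩
    change Submodule.Quotient.mk (x • c) = Submodule.Quotient.mk (j + c * x)
    rw [Submodule.Quotient.eq, smul_eq_mul, show x * c - (j + c * x) = -j by ring]
    exact neg_mem hj
  let K : Res A (LinearMap.ker p) := D.P.ofEquiv (LinearEquiv.ofBijective μ hμ)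
  let φ : ∀ n, ↥(K.X n) →ₗ[A] ↥(D.P.X n) := fun n => x • LinearMap.id
  let P' : Res A (A ⧸ J') := cone p D.P K φ hp (fun z => map_smul D.P.ε x z) (fun n z => map_smul (D.P.d n) x z)
  refine ⟨{ P := P', rank := fun n => ?_, dmem := fun n z => ?_, top := fun k hk => ?_ }⟩
  · rcases n with _ | n
    · obtain ⟨e⟩ := D.rank 0
      exact ⟨e.trans (LinearEquiv.funCongrLeft A A (finCongr (by simp)))⟩
    · obtain ⟨e⟩ := D.rank n
      obtain ⟨e'⟩ := D.rank (n + 1)
      exact ⟨((e'.prodCongr e).trans (LinearEquiv.sumArrowLequivProdArrow _ _ A A).symm).trans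
        (LinearEquiv.funCongrLeft A A ((finCongr (by
          simp [Nat.choose_succ_succ, add_comm])).trans finSumFinEquiv.symm))⟩
  · have hmono : ∀ {X : Type u} [AddCommGroup X] [Module A X] (y : X),
        y ∈ J • (⊤ : Submodule A X) → y ∈ J' • (⊤ : Submodule A X) :=
      fun y hy => Submodule.smul_mono (hJ ▸ le_sup_left) le_rfl hy
    rcases n with _ | n
    · obtain ⟨g, z⟩ : ↥(D.P.X 1) × ↥(D.P.X 0) := z
      exact add_mem (hmono _ (D.dmem 0 g)) (smul_mem_top hxJ z)
    · let z₀ : ↥(D.P.X (n + 2)) × ↥(D.P.X (n + 1)) := z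
      rw [show z = z₀ from rfl]
      obtain ⟨g, z⟩ := z₀
      have h1 : D.P.d (n + 1) g + x • z ∈ J' • (⊤ : Submodule A ↥(D.P.X (n + 1))) :=
        add_mem (hmono _ (D.dmem (n + 1) g)) (smul_mem_top hxJ z)
      have h2 : -(D.P.d n z) ∈ J' • (⊤ : Submodule A ↥(D.P.X n)) := neg_mem (hmono _ (D.dmem n z))
      have e1 := map_mem_smul_top (LinearMap.inl A ↥(D.P.X (n + 1)) ↥(D.P.X n)) _ h1
      have e2 := map_mem_smul_top (LinearMap.inr A ↥(D.P.X (n + 1)) ↥(D.P.X n)) _ h2
      refine (congrArg (· ∈ _) ?_).mp (add_mem e1 e2)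
      exact Prod.ext (add_zero _) (zero_add _)
  · have hk' : l.length = k := by simpa using hk
    haveI : Subsingleton ↥(D.P.X (k + 1)) := by
      obtain ⟨e⟩ := D.rank (k + 1)
      haveI : IsEmpty (Fin (l.length.choose (k + 1))) := by
        rw [hk', Nat.choose_succ_self]
        infer_instance
      exact e.toEquiv.subsingleton
    have hJ'le : ∀ (N : Type u) [AddCommGroup N] [Module A N] (m : N),
        (x • m = 0 ∧ ∀ a ∈ J, a • m = 0) ↔ ∀ a ∈ J', a • m = 0 := fun N _ _ m => by
      constructor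
      · rintro ⟨h1, h2⟩ a ha
        rw [hJ] at ha
        obtain ⟨j, hj, s, hs, rfl⟩ := Submodule.mem_sup.1 ha
        obtain ⟨c, rfl⟩ := Ideal.mem_span_singleton'.1 hs
        rw [add_smul, h2 j hj, mul_smul, h1, smul_zero, add_zero]
      · exact fun h => ⟨h x hxJ, fun a ha => h a (hJ ▸ Ideal.mem_sup_left ha)⟩
    let pr : ↥(P'.X (k + 1)) →ₗ[A] ↥(D.P.X k) := LinearMap.snd A ↥(D.P.X (k + 1)) ↥(D.P.X k)
    let E : ↥(P'.X (k + 1)) ≃ₗ[A] ↥(D.P.X k) := LinearEquiv.ofBijective pr
      ⟨fun a b h => Prod.ext (Subsingleton.elim _ _) h, fun b => ⟨(((0 : ↥(D.P.X (k + 1))), b) : _ × _), rfl⟩⟩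
    rcases k with _ | k
    · obtain ⟨e⟩ := D.rank 0
      let e0 : ↥(D.P.X 0) ≃ₗ[A] A :=
        haveI : Unique (Fin (l.length.choose 0)) := by rw [Nat.choose_zero_right]; infer_instance
        e.trans (LinearEquiv.funUnique _ A A)
      refine ⟨E.trans e0, fun N _ _ m => ?_⟩
      rw [LinearMap.rTensor_tmul, ← hJ'le, show (E.trans e0).symm 1 = ((0, e0.symm 1) : ↥(D.P.X 1) × ↥(D.P.X 0)) from
        (E.trans e0).injective (by
          rw [LinearEquiv.apply_symm_apply]
          exact (e0.apply_symm_apply 1).symm)]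
      have hd : P'.d 0 ((0, e0.symm 1) : ↥(D.P.X 1) × ↥(D.P.X 0)) = x • e0.symm 1 := by
        change D.P.d 0 0 + x • e0.symm 1 = _
        rw [map_zero, zero_add]
      rw [hd]
      let t : ↥(D.P.X 0) ⊗[A] N ≃ₗ[A] N := (e0.rTensor N).trans (TensorProduct.lid A N)
      have ht : t ((x • e0.symm 1) ⊗ₜ[A] m) = x • m := by
        simp [t, LinearEquiv.rTensor_tmul]
      have hJ0 : J = ⊥ := by
        simp only [J, List.length_eq_zero_iff.1 hk', Ideal.ofList_nil]
      constructor
      · intro h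
        refine ⟨by rw [← ht]; exact (congrArg t h).trans (map_zero t), fun a ha => ?_⟩
        rw [hJ0, Ideal.mem_bot] at ha
        rw [ha, zero_smul]
      · exact fun h => t.injective (ht.trans (h.1.trans (map_zero t).symm))
    · obtain ⟨e0, he0⟩ := D.top k hk'
      refine ⟨E.trans e0, fun N _ _ m => ?_⟩
      rw [LinearMap.rTensor_tmul, ← hJ'le, ← he0 N m, LinearMap.rTensor_tmul,
        show (E.trans e0).symm 1 = ((0, e0.symm 1) : ↥(D.P.X (k + 2)) × ↥(D.P.X (k + 1))) from
        (E.trans e0).injective (by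
          rw [LinearEquiv.apply_symm_apply]
          exact (e0.apply_symm_apply 1).symm)]
      have hd : P'.d (k + 1) ((0, e0.symm 1) : ↥(D.P.X (k + 2)) × ↥(D.P.X (k + 1))) =
          ((x • e0.symm 1, -(D.P.d k (e0.symm 1))) : ↥(D.P.X (k + 1)) × ↥(D.P.X k)) := by
        refine Prod.ext ?_ rfl
        change D.P.d (k + 1) 0 + x • e0.symm 1 = _
        rw [map_zero, zero_add]
      rw [hd]
      let t : ↥(D.P.X (k + 1)) ⊗[A] N ≃ₗ[A] N := (e0.rTensor N).trans (TensorProduct.lid A N)
      have ht : t ((x • e0.symm 1) ⊗ₜ[A] m) = x • m := by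
        simp [t, LinearEquiv.rTensor_tmul]
      constructor
      · intro h
        have hf := congrArg ((LinearMap.fst A ↥(D.P.X (k + 1)) ↥(D.P.X k)).rTensor N) h
        have hs := congrArg ((LinearMap.snd A ↥(D.P.X (k + 1)) ↥(D.P.X k)).rTensor N) h
        replace hf : (x • e0.symm 1) ⊗ₜ[A] m = (0 : ↥(D.P.X (k + 1)) ⊗[A] N) := hf.trans (map_zero _)
        replace hs : (-(D.P.d k (e0.symm 1))) ⊗ₜ[A] m = (0 : ↥(D.P.X k) ⊗[A] N) := hs.trans (map_zero _)
        refine ⟨?_, ?_⟩
        · rw [← ht]; exact (congrArg t hf).trans (map_zero t)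
        · simpa [neg_tmul] using hs
      · rintro ⟨h1, h2⟩
        have hf : (x • e0.symm 1) ⊗ₜ[A] m = 0 := t.injective (ht.trans (h1.trans (map_zero t).symm))
        have hsplit : ((x • e0.symm 1, -(D.P.d k (e0.symm 1))) : ↥(D.P.X (k + 1)) × ↥(D.P.X k)) ⊗ₜ[A] m =
            (LinearMap.inl A ↥(D.P.X (k + 1)) ↥(D.P.X k)).rTensor N ((x • e0.symm 1) ⊗ₜ[A] m) +
              (LinearMap.inr A ↥(D.P.X (k + 1)) ↥(D.P.X k)).rTensor N ((-(D.P.d k (e0.symm 1))) ⊗ₜ[A] m) := by
          rw [LinearMap.rTensor_tmul, LinearMap.rTensor_tmul, ← TensorProduct.add_tmul]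
          congr 1
          exact Prod.ext (add_zero _).symm (zero_add _).symm
        refine hsplit.trans ?_
        rw [hf, neg_tmul, h2, neg_zero, map_zero, map_zero, add_zero]
        rfl

/-- A weakly regular sequence has a Koszul resolution. -/
theorem nonempty_kdata {l : List A} (hl : RingTheory.Sequence.IsWeaklyRegular A l) : Nonempty (KData l) := by
  induction l using List.reverseRecOn with
  | nil => exact kdata_nil
  | append_singleton l x ih =>
    have h1 : RingTheory.Sequence.IsWeaklyRegular A l := ⟨fun i hi => by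
      have := hl.regular_mod_prev i (by simp; omega)
      rwa [List.take_append_of_le_length (Nat.le_of_lt hi), List.getElem_append_left hi] at this⟩
    have h2 := hl.regular_mod_prev l.length (by simp)
    rw [List.take_left, List.getElem_concat_length rfl, smul_eq_mul, Ideal.mul_top] at h2
    obtain ⟨D⟩ := ih h1
    exact kdata_append D h2

end Groth.Agent.H6Tor
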