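import Groth.Agent.H6Tor.Koszul
import Groth.Agent.CxLib.Homology

/-!
# Ext and top Tor of the quotient by a weakly regular sequence
-/

universe u

open CategoryTheory TensorProduct

namespace Groth.Agent.H6Tor

variable {A : Type u} [CommRing A] {l : List A} (D : KData l) (M : Type u) [AddCommGroup M] [Module A M]

theorem apply_smul_top_eq_zero {X : Type u} [AddCommGroup X] [Module A X] {J : Ideal A}
    (hJM : J • (⊤ : Submodule A M) = ⊥) (f : X →ₗ[A] M) {y : X} (hy : y ∈ J • (⊤ : Submodule A X)) :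
    f y = 0 := by
  have := map_mem_smul_top f J hy
  rwa [hJM, Submodule.mem_bot] at this

include D in
theorem nonempty_ext_equiv (hJM : Ideal.ofList l • (⊤ : Submodule A M) = ⊥) (i : ℕ) :
    Nonempty (Abelian.Ext (ModuleCat.of A (A ⧸ Ideal.ofList l)) (ModuleCat.of A M) i ≃ₗ[A]
      (Fin (l.length.choose i) → M)) := by
  let P := D.P.toPR
  have hzero : ∀ (n : ℕ) (f : P.complex.X n ⟶ ModuleCat.of A M), P.complex.d (n + 1) n ≫ f = 0 := fun n f =>
    ModuleCat.hom_ext (LinearMap.ext fun z => by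
      change f.hom ((P.complex.d (n + 1) n).hom z) = 0
      rw [Res.toPR_d]
      exact apply_smul_top_eq_zero M hJM f.hom (D.dmem n z))
  let L : (↥(D.P.X i) →ₗ[A] M) →ₗ[A] Abelian.Ext (ModuleCat.of A (A ⧸ Ideal.ofList l)) (ModuleCat.of A M) i :=
    { toFun := fun f => P.extMk (ModuleCat.ofHom f : P.complex.X i ⟶ _) (i + 1) rfl (hzero i _)
      map_add' := fun f g => (P.add_extMk _ _ (i + 1) rfl (hzero i _) (hzero i _)).symm
      map_smul' := fun a f => by
        rw [RingHom.id_apply, Abelian.Ext.smul_eq_comp_mk₀, ProjectiveResolution.extMk_comp_mk₀]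
        congr 1 }
  have hL : Function.Bijective L := by
    refine ⟨(injective_iff_map_eq_zero L).2 fun f hf => ?_, fun α => ?_⟩
    · cases i with
      | zero =>
        have h0 : (ModuleCat.ofHom f : P.complex.X 0 ⟶ ModuleCat.of A M) = 0 := by
          have h1 := congrArg P.extEquivCohomologyClass hf
          simp only [L, LinearMap.coe_mk, AddHom.coe_mk, ProjectiveResolution.extEquivCohomologyClass_extMk,
            ProjectiveResolution.extEquivCohomologyClass_zero, CochainComplex.HomComplex.CohomologyClass.mk_eq_zero_iff] at h1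
          rw [CochainComplex.HomComplex.Cocycle.toSingleMk_mem_coboundaries_iff _ _ _ _ _ 1 (by omega)] at h1
          obtain ⟨g, hg⟩ := h1
          have hz : Limits.IsZero (P.cochainComplex.X 1) :=
            P.cochainComplex.isZero_of_isStrictlyLE 0 1 (by omega)
          rw [hz.eq_of_tgt (P.cochainComplex.d _ 1) 0, Limits.zero_comp] at hg
          exact (cancel_epi (P.cochainComplexXIso (-(0 : ℕ)) 0 rfl).hom).1 (hg.symm.trans Limits.comp_zero.symm)
        exact congrArg ModuleCat.Hom.hom h0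
      | succ i =>
        obtain ⟨g, hg⟩ := (P.extMk_eq_zero_iff (ModuleCat.ofHom f : P.complex.X (i + 1) ⟶ ModuleCat.of A M) (i + 1 + 1) rfl (hzero _ _) i rfl).1 hf
        rw [hzero i g] at hg
        exact congrArg ModuleCat.Hom.hom hg.symm
    · obtain ⟨f, _, rfl⟩ := P.extMk_surjective α (i + 1) rfl
      exact ⟨f.hom, rfl⟩
  obtain ⟨e⟩ := D.rank i
  exact ⟨((LinearEquiv.ofBijective L hL).symm.trans (e.arrowCongr (LinearEquiv.refl A M))).trans
    ((Pi.basisFun A (Fin (l.length.choose i))).constr A).symm⟩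

include D in
theorem nonempty_tor_equiv :
    Nonempty (↑(((Tor' (ModuleCat.{u} A) l.length).obj (ModuleCat.of A (A ⧸ Ideal.ofList l))).obj
      (ModuleCat.of A M)) ≃ₗ[A] ((A ⧸ Ideal.ofList l) →ₗ[A] M)) := by
  let J := Ideal.ofList l
  let p := l.length
  let P := D.P.toPR
  let G := (MonoidalCategory.tensoringRight (ModuleCat.{u} A)).obj (ModuleCat.of A M)
  let C := (G.mapHomologicalComplex (ComplexShape.down ℕ)).obj P.complex
  have hCd : ∀ n (z : ↥(D.P.X (n + 1)) ⊗[A] M), (C.d (n + 1) n).hom z = (D.P.d n).rTensor M z := fun n z => by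
    change (P.complex.d (n + 1) n).hom.rTensor M z = _
    rw [Res.toPR_d]
    rfl
  haveI : Subsingleton ↥(D.P.X (p + 1)) := by
    obtain ⟨e⟩ := D.rank (p + 1)
    haveI : IsEmpty (Fin (l.length.choose (p + 1))) := by
      rw [Nat.choose_succ_self]
      infer_instance
    exact e.toEquiv.subsingleton
  have hd : C.d (p + 1) p = 0 := ModuleCat.hom_ext (LinearMap.ext fun (z : ↥(D.P.X (p + 1)) ⊗[A] M) => by
    rw [hCd]
    exact (congrArg _ (Subsingleton.elim z 0)).trans (map_zero _))
  obtain ⟨e, he⟩ : ∃ e : ↥(D.P.X p) ≃ₗ[A] A, ∀ m : M,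
      (C.d p (p - 1)).hom ((e.symm 1 ⊗ₜ[A] m : ↥(D.P.X p) ⊗[A] M)) = 0 ↔ ∀ a ∈ J, a • m = 0 := by
    suffices ∀ q, p = q → ∃ e : ↥(D.P.X q) ≃ₗ[A] A, ∀ m : M,
        (C.d q (q - 1)).hom ((e.symm 1 ⊗ₜ[A] m : ↥(D.P.X q) ⊗[A] M)) = 0 ↔ ∀ a ∈ J, a • m = 0 from
      this p rfl
    rintro (_ | k) hq
    · obtain ⟨e⟩ := D.rank 0
      haveI : Unique (Fin (l.length.choose 0)) := by rw [Nat.choose_zero_right]; infer_instance
      refine ⟨e.trans (LinearEquiv.funUnique _ A A), fun m => ?_⟩
      have hJ : J = ⊥ := by simp only [J, List.length_eq_zero_iff.1 hq, Ideal.ofList_nil]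
      rw [C.shape 0 (0 - 1) (by simp), hJ]
      exact ⟨fun _ a ha => by rw [(Ideal.mem_bot).1 ha, zero_smul], fun _ => rfl⟩
    · obtain ⟨e, he⟩ := D.top k hq
      refine ⟨e, fun m => ?_⟩
      refine Iff.trans (Eq.to_iff ?_) (he M m)
      exact congrArg (fun z => z = (0 : ↥(D.P.X k) ⊗[A] M)) (hCd k _)
  have hnext : (ComplexShape.down ℕ).next p = p - 1 := by
    rcases p with _ | k
    · exact ChainComplex.next_nat_zero
    · exact ChainComplex.next_nat_succ k
  let t : ↥(D.P.X p) ⊗[A] M ≃ₗ[A] M := (e.rTensor M).trans (TensorProduct.lid A M)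
  have hts : ∀ m, t.symm m = e.symm 1 ⊗ₜ[A] m := fun m => t.injective (by
    rw [LinearEquiv.apply_symm_apply]
    simp [t, LinearEquiv.rTensor_tmul])
  let val : ↥(C.cycles p) →ₗ[A] M := t.toLinearMap ∘ₗ (C.iCycles p).hom
  have hcyc : ∀ z : ↥(C.cycles p), J ≤ LinearMap.ker (LinearMap.toSpanSingleton A M (val z)) := fun z a ha => by
    refine (he (val z)).1 ?_ a ha
    rw [← hts]
    change (C.d p (p - 1)).hom (t.symm (t ((C.iCycles p).hom z))) = 0
    rw [LinearEquiv.symm_apply_apply]
    change ((C.iCycles p) ≫ C.d p (p - 1)).hom z = 0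
    rw [C.iCycles_d]
    rfl
  let Ψ : ↥(C.cycles p) →ₗ[A] ((A ⧸ J) →ₗ[A] M) :=
    { toFun := fun z => J.liftQ (LinearMap.toSpanSingleton A M (val z)) (hcyc z)
      map_add' := fun z w => Submodule.linearMap_qext _ (LinearMap.ext fun a => by
        change a • val (z + w) = a • val z + a • val w
        rw [map_add, smul_add])
      map_smul' := fun r z => Submodule.linearMap_qext _ (LinearMap.ext fun a => by
        change a • val (r • z) = r • (a • val z)
        rw [map_smul, smul_comm]) }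
  have hΨ : Function.Bijective Ψ := by
    refine ⟨fun z w h => (ModuleCat.mono_iff_injective _).1 (inferInstance : Mono (C.iCycles p)) (t.injective ?_),
      fun ψ => ?_⟩
    · have h1 := LinearMap.congr_fun h (Submodule.Quotient.mk 1)
      change (1 : A) • val z = (1 : A) • val w at h1
      rwa [one_smul, one_smul] at h1
    · let m : M := ψ (Submodule.Quotient.mk 1)
      have hm : ∀ a ∈ J, a • m = 0 := fun a ha => by
        rw [← map_smul, show a • (Submodule.Quotient.mk 1 : A ⧸ J) = 0 from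
          (Submodule.Quotient.mk_smul J a 1).symm.trans ((Submodule.Quotient.mk_eq_zero J).2 (by simpa using ha)), map_zero]
      obtain ⟨z, hz⟩ := CxLib.exists_iCycles_eq C p ((ComplexShape.down ℕ).next p) rfl (t.symm m) (by
        rw [hnext]
        rw [hts]
        exact (he m).2 hm)
      refine ⟨z, Submodule.linearMap_qext _ (LinearMap.ext_ring ?_)⟩
      change (1 : A) • t ((C.iCycles p).hom z) = m
      rw [one_smul, hz, LinearEquiv.apply_symm_apply]
  haveI := C.isIso_homologyπ (p + 1) p (by simp) hd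
  let e1 : ↥(C.cycles p) ≃ₗ[A] ↥(C.homology p) := (asIso (C.homologyπ p)).toLinearEquiv
  exact ⟨((P.isoLeftDerivedObj G p).toLinearEquiv.trans e1.symm).trans (LinearEquiv.ofBijective Ψ hΨ)⟩

end Groth.Agent.H6Tor
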