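import Groth.Agent.H6Tor.Chain

/-!
# The extended Rees algebra
-/

universe u

open Polynomial LaurentPolynomial

namespace Groth.Agent.H6Tor

variable (R : Type u) [CommRing R]

theorem almost_empty : Almost (R := R) (T (-1) : R[T;T⁻¹]) (Set.range some) ∅ 0 := by
  let x : R[T;T⁻¹] := T (-1)
  have hinj : Function.Injective (Polynomial.aeval x : R[X] → R[T;T⁻¹]) := by
    have : (Polynomial.aeval x : R[X] →ₐ[R] R[T;T⁻¹]) =
        (LaurentPolynomial.invert : R[T;T⁻¹] ≃ₐ[R] R[T;T⁻¹]).toAlgHom.comp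
          Polynomial.toLaurentAlg := by
      ext; simp [x]
    rw [this]
    exact (LaurentPolynomial.invert).injective.comp Polynomial.toLaurent_injective
  have hrange : (Polynomial.aeval x : R[X] →ₐ[R] R[T;T⁻¹]).range = gen x ∅ := by
    rw [gen, Finset.coe_empty, insert_empty_eq, Algebra.adjoin_singleton_eq_range_aeval]
  let e : R[X] ≃ₐ[R] gen (R := R) x ∅ :=
    (AlgEquiv.ofInjective _ hinj).trans (Subalgebra.equivOfEq _ _ hrange)
  refine ⟨0, ?_⟩
  rintro _ ⟨q, rfl⟩
  haveI : Module.Free R (AdjoinRoot (X ^ q : R[X])) :=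
    Module.Free.of_basis (AdjoinRoot.powerBasis' (monic_X_pow q)).basis
  haveI : Module.Flat R (R[X] ⧸ Ideal.span {(X ^ q : R[X])}) :=
    inferInstanceAs (Module.Flat R (AdjoinRoot (X ^ q : R[X])))
  have he : e (X ^ q) = genU x ∅ ^ q := by
    rw [map_pow]
    congr 1
    exact Subtype.ext (by simp [e, genU])
  haveI : Module.Flat R (gen (R := R) x ∅ ⧸ Ideal.span {vpow (some q) (genU (R := R) x ∅)}) :=
    Module.Flat.of_linearEquiv (Ideal.quotientEquivAlg (Ideal.span {(X ^ q : R[X])}) _ e (by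
      rw [Ideal.map_span, Set.image_singleton]
      simp only [vpow, Option.elim_some]
      congr 2
      exact he.symm)).toLinearEquiv.symm
  exact fun n _ => kills_of_flat n _

/-- The Laurent polynomials whose degree `n` coefficient lies in `I ^ n`. -/
noncomputable def extRees (I : Ideal R) : Subalgebra R R[T;T⁻¹] where
  carrier := {f | ∀ n : ℤ, f.coeff n ∈ I ^ n.toNat}
  mul_mem' {f g} hf hg n := by
    classical
    rw [AddMonoidAlgebra.coeff_mul]
    simp only [Finsupp.sum]
    refine Submodule.sum_mem _ fun a _ => Submodule.sum_mem _ fun b _ => ?_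
    split_ifs with h
    · subst h
      exact Ideal.pow_le_pow_right (by omega) (pow_add I a.toNat b.toNat ▸ Ideal.mul_mem_mul (hf a) (hg b))
    · exact zero_mem _
  add_mem' {f g} hf hg n := by
    rw [AddMonoidAlgebra.coeff_add, Finsupp.add_apply]
    exact add_mem (hf n) (hg n)
  algebraMap_mem' r n := by
    classical
    rw [LaurentPolynomial.algebraMap_apply, LaurentPolynomial.C_apply]
    split_ifs with h
    · subst h; simp
    · exact zero_mem _

variable {R}

/-- Uniform almost Tor dimension of the quotients by powers of an ideal. -/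
theorem exists_rees [IsNoetherianRing R] (I : Ideal R) (s : Finset R)
    (hs : I = Ideal.span (s : Set R)) :
    ∃ c : ℕ, ∀ q : ℕ,
      (∃ hle : I ^ q ≤ I ^ (q - c), ATor s.card (Submodule.mapQ (I ^ q) (I ^ (q - c)) LinearMap.id hle)) ∧
        ∀ b ∈ I ^ c, ATor s.card (b • LinearMap.id : (R ⧸ I ^ q) →ₗ[R] (R ⧸ I ^ q)) := by
  classical
  let x : R[T;T⁻¹] := T (-1)
  have hx : IsUnit x := isUnit_T _
  let S : Finset R[T;T⁻¹] := s.image fun a => LaurentPolynomial.C a * T 1
  have hS : ∀ z ∈ S, x * z ∈ (⊥ : Subalgebra R R[T;T⁻¹]) := fun z hz => by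
    obtain ⟨a, -, rfl⟩ := Finset.mem_image.1 hz
    refine Algebra.mem_bot.2 ⟨a, ?_⟩
    rw [mul_left_comm, ← T_add]
    simp [x, LaurentPolynomial.algebraMap_apply]
  obtain ⟨c, hc⟩ := almost_card hx (Set.range some) S hS (almost_empty R)
  let B := gen (R := R) x S
  let u : B := genU x S
  have hle : B ≤ extRees R I := Algebra.adjoin_le <| by
    rintro f (rfl | hf)
    · intro n
      rw [show x = _ from T.eq_def .. |>.trans rfl] at *
      simp only [T, AddMonoidAlgebra.coeff_single, Finsupp.single_apply]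
      split_ifs with h
      · subst h; simp
      · exact zero_mem _
    · obtain ⟨a, ha, rfl⟩ := Finset.mem_image.1 hf
      intro n
      rw [← single_eq_C_mul_T, AddMonoidAlgebra.coeff_single, Finsupp.single_apply]
      split_ifs with h
      · subst h; simpa [hs] using Ideal.subset_span ha
      · exact zero_mem _
  have hmem : ∀ (k : ℕ), ∀ b ∈ I ^ k, LaurentPolynomial.C b * T (k : ℤ) ∈ B := by
    intro k
    induction k with
    | zero =>
      intro b _
      simpa [LaurentPolynomial.algebraMap_apply] using B.algebraMap_mem b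
    | succ k ih =>
      intro b hb
      rw [pow_succ] at hb
      refine Submodule.mul_induction_on hb (fun i hi a ha => ?_) fun p p' hp hp' => ?_
      · rw [hs] at ha
        induction ha using Submodule.span_induction with
        | mem a ha =>
          have := B.mul_mem (ih i hi) (Algebra.subset_adjoin
            (Set.mem_insert_of_mem _ (Finset.mem_image_of_mem (fun a => LaurentPolynomial.C a * T 1) ha)) :
              LaurentPolynomial.C a * T 1 ∈ B)
          rw [map_mul, Nat.cast_succ, T_add]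
          convert this using 1; ring
        | zero => simp
        | add p p' _ _ hp hp' => rw [mul_add, map_add, add_mul]; exact add_mem hp hp'
        | smul r p _ hp =>
          rw [smul_eq_mul, mul_left_comm, map_mul, mul_assoc]
          exact B.mul_mem (by simpa [LaurentPolynomial.algebraMap_apply] using B.algebraMap_mem r) hp
      · rw [map_add, add_mul]; exact add_mem hp hp'
  refine ⟨c, fun q => ⟨⟨Ideal.pow_le_pow_right (Nat.sub_le q c), ?_⟩, fun b hb => ?_⟩⟩ <;>
    have hd : ATor s.card (LinearMap.mulLeft R (Ideal.Quotient.mk (Ideal.span {u ^ q}) (u ^ c))) :=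
      ((hc (some q) ⟨q, rfl⟩).mono (Finset.card_image_le))
  all_goals
    have hinc : ∀ (k : ℕ) (b : R) (hb : b ∈ I ^ k), ∀ r ∈ I ^ q,
        Ideal.Quotient.mk (Ideal.span {u ^ q}) (r • ⟨_, hmem k b hb⟩) = 0 := fun k b hb r hr =>
      Ideal.Quotient.eq_zero_iff_mem.2 (Ideal.mem_span_singleton'.2
        ⟨⟨_, hmem q r hr⟩ * ⟨_, hmem k b hb⟩, Subtype.ext (by
          change LaurentPolynomial.C r * T (q : ℤ) * (LaurentPolynomial.C b * T (k : ℤ)) * x ^ q =
            r • (LaurentPolynomial.C b * T (k : ℤ))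
          rw [LaurentPolynomial.smul_eq_C_mul, T_pow, mul_right_comm, mul_assoc (LaurentPolynomial.C r), ← T_add,
            show (q : ℤ) + (q : ℤ) * -1 = 0 by ring, T_zero, mul_one])⟩)
    let inc : ∀ (k : ℕ) (b : R), b ∈ I ^ k → (R ⧸ I ^ q) →ₗ[R] (B ⧸ Ideal.span {u ^ q}) := fun k b hb =>
      (I ^ q).liftQ (LinearMap.toSpanSingleton R _ (Ideal.Quotient.mk _ ⟨_, hmem k b hb⟩))
        fun r hr => hinc k b hb r hr
    let cl : ∀ m : ℕ, B →ₗ[R] (R ⧸ I ^ (q - m)) := fun m =>
      { toFun := fun f => Ideal.Quotient.mk _ ((f : R[T;T⁻¹]).coeff (-(m : ℤ)))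
        map_add' := fun f g => by simp
        map_smul' := fun r f => by
          change Ideal.Quotient.mk _ ((r • (f : R[T;T⁻¹])).coeff _) = _
          rw [AddMonoidAlgebra.coeff_smul, Finsupp.smul_apply]
          rfl }
    have hcl : ∀ m : ℕ, (Ideal.span {u ^ q}).restrictScalars R ≤ LinearMap.ker (cl m) := fun m f hf => by
      obtain ⟨g, rfl⟩ := Ideal.mem_span_singleton'.1 hf
      refine Ideal.Quotient.eq_zero_iff_mem.2 ?_
      change ((g : R[T;T⁻¹]) * x ^ q).coeff _ ∈ _
      rw [T_pow, show (T ((q : ℤ) * -1) : R[T;T⁻¹]) = AddMonoidAlgebra.single ((q : ℤ) * -1) 1 from rfl,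
        AddMonoidAlgebra.coeff_mul_single_eq_coeff_mul ((q : ℤ) - m) (by intro a _; omega), mul_one]
      exact Ideal.pow_le_pow_right (by omega) (hle g.2 _)
    let pr : ∀ m : ℕ, (B ⧸ Ideal.span {u ^ q}) →ₗ[R] (R ⧸ I ^ (q - m)) := fun m =>
      ((Ideal.span {u ^ q}).restrictScalars R).liftQ (cl m) (hcl m) ∘ₗ
        (Submodule.Quotient.restrictScalarsEquiv R (Ideal.span {u ^ q})).symm.toLinearMap
  · suffices Submodule.mapQ (I ^ q) (I ^ (q - c)) LinearMap.id _ =
        (pr c ∘ₗ LinearMap.mulLeft R (Ideal.Quotient.mk (Ideal.span {u ^ q}) (u ^ c))) ∘ₗ inc 0 1 (by simp) from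
      this ▸ (hd.comp_left _).comp_right _
    refine Submodule.linearMap_qext _ (LinearMap.ext_ring ?_)
    change Ideal.Quotient.mk _ (1 : R) = cl c (u ^ c * ((1 : R) • ⟨_, hmem 0 1 (by simp)⟩))
    refine congrArg (Ideal.Quotient.mk _) ?_
    change 1 = (x ^ c * ((1 : R) • (LaurentPolynomial.C (1 : R) * T ((0 : ℕ) : ℤ)))).coeff _
    rw [one_smul, T_pow, map_one, one_mul, ← T_add,
      show (c : ℤ) * -1 + ((0 : ℕ) : ℤ) = -(c : ℤ) by omega]
    exact Finsupp.single_eq_same.symm
  · suffices (b • LinearMap.id : (R ⧸ I ^ q) →ₗ[R] (R ⧸ I ^ q)) =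
        (pr 0 ∘ₗ LinearMap.mulLeft R (Ideal.Quotient.mk (Ideal.span {u ^ q}) (u ^ c))) ∘ₗ inc c b hb from
      this ▸ (hd.comp_left _).comp_right _
    refine Submodule.linearMap_qext _ (LinearMap.ext_ring ?_)
    change b • Ideal.Quotient.mk (I ^ q) (1 : R) = cl 0 (u ^ c * ((1 : R) • ⟨_, hmem c b hb⟩))
    rw [show b • Ideal.Quotient.mk (I ^ q) (1 : R) = Ideal.Quotient.mk (I ^ q) b from
      congrArg (Submodule.Quotient.mk) (mul_one b)]
    refine congrArg (Ideal.Quotient.mk _) ?_
    change b = (x ^ c * ((1 : R) • (LaurentPolynomial.C b * T (c : ℤ)))).coeff _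
    rw [one_smul, T_pow, mul_left_comm, ← T_add]
    simp [Finsupp.single_apply, ← single_eq_C_mul_T]

end Groth.Agent.H6Tor
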