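import Groth.Agent.H6Tor.Kills
import Mathlib

/-!
# Adjoining one element raises the almost Tor dimension by at most one
-/

universe u

open TensorProduct Polynomial

namespace Groth.Agent.H6Tor

variable {R B B' : Type u} [CommRing R] [CommRing B] [CommRing B'] [Algebra R B] [Algebra R B']

/-- Base change to polynomials. -/
theorem ATor.polynomial {d : ℕ} {c : B} (h : ATor d (LinearMap.mulLeft R c)) :
    ATor d (LinearMap.mulLeft R (C c : B[X])) := by
  let e : B[X] ≃ₗ[R] R[X] ⊗[R] B :=
    (polyEquivTensor R B).toLinearEquiv.trans (TensorProduct.comm R B R[X])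
  have he : LinearMap.mulLeft R (C c : B[X]) =
      (e.symm.toLinearMap ∘ₗ (LinearMap.mulLeft R c).lTensor R[X]) ∘ₗ e.toLinearMap := by
    refine LinearMap.ext fun p => e.injective ?_
    simp only [LinearMap.comp_apply, LinearEquiv.coe_coe, LinearEquiv.apply_symm_apply,
      LinearMap.mulLeft_apply]
    induction p using Polynomial.induction_on' with
    | add p q hp hq => simp only [mul_add, map_add, hp, hq]
    | monomial n b =>
      simp [e, C_mul_monomial, polyEquivTensor_apply, TensorProduct.tmul_add]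
  rw [he]
  exact ((h.lTensor R[X]).comp_left e.symm.toLinearMap).comp_right e.toLinearMap

variable [Algebra B B'] [IsScalarTower R B B']

omit [Algebra R B] [Algebra R B'] [IsScalarTower R B B'] in
/-- Division by `u X - a` up to a power of `u`. -/
theorem exists_division (u a : B) (p : B[X]) :
    ∃ (n : ℕ) (q : B[X]) (r : B), C u ^ n * p = (C u * X - C a) * q + C r := by
  induction p using Polynomial.induction_on with
  | C b => exact ⟨0, 0, b, by simp⟩
  | add p q hp hq =>
    obtain ⟨n, p', r, hp⟩ := hp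
    obtain ⟨m, q', s, hq⟩ := hq
    refine ⟨n + m, C u ^ m * p' + C u ^ n * q', u ^ m * r + u ^ n * s, ?_⟩
    rw [mul_add, map_add, map_mul, map_mul, map_pow, map_pow, pow_add]
    linear_combination (C u ^ m) * hp + (C u ^ n) * hq
  | monomial k b hk =>
    obtain ⟨n, q, r, hq⟩ := hk
    refine ⟨n + 1, C u * q * X + C r, a * r, ?_⟩
    rw [map_mul, pow_succ X k, pow_succ (C u) n]
    linear_combination (C u * X) * hq

omit [Algebra R B] [Algebra R B'] [IsScalarTower R B B'] in
/-- The relations of `z = a / u` are killed by a power of `u` modulo `u X - a`. -/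
theorem exists_pow_mul_mem [IsNoetherianRing B] (hι : Function.Injective (algebraMap B B'))
    (u a : B) (z : B') (hza : algebraMap B B' u * z = algebraMap B B' a) :
    ∃ c : ℕ, ∀ p : B[X], aeval z p = 0 → (C u * X - C a) ∣ C u ^ c * p := by
  have h1 : ∀ p : B[X], aeval z p = 0 → ∃ n, (C u * X - C a) ∣ C u ^ n * p := fun p hp => by
    obtain ⟨n, q, r, h⟩ := exists_division u a p
    have hr : algebraMap B B' r = 0 := by
      have h' := congrArg (aeval z) h
      simpa [hp, hza] using h'.symm
    rw [← map_zero (algebraMap B B')] at hr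
    exact ⟨n, q, by rw [h, hι hr, map_zero, add_zero]⟩
  let J : ℕ →o Ideal B[X] :=
    { toFun := fun n => (Ideal.span {C u * X - C a}).colon (Ideal.span {C u ^ n} : Set B[X])
      monotone' := fun n m hnm p hp => by
        rw [Submodule.mem_colon] at hp ⊢
        intro x hx
        obtain ⟨y, rfl⟩ := Ideal.mem_span_singleton.1 hx
        have := hp (C u ^ n) (Ideal.mem_span_singleton_self _)
        rw [smul_eq_mul] at this ⊢
        obtain ⟨k, rfl⟩ := Nat.exists_eq_add_of_le hnm
        rw [pow_add, show p * (C u ^ n * C u ^ k * y) = p * C u ^ n * (C u ^ k * y) by ring]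
        exact Ideal.mul_mem_right _ _ this }
  obtain ⟨c, hc⟩ := monotone_stabilizes_iff_noetherian.2 (inferInstance : IsNoetherian B[X] B[X]) J
  refine ⟨c, fun p hp => ?_⟩
  obtain ⟨n, hn⟩ := h1 p hp
  have hmem : p ∈ J (max c n) := J.monotone (le_max_right _ _) <| by
    change p ∈ Submodule.colon _ _
    rw [Submodule.mem_colon]
    intro x hx
    obtain ⟨y, rfl⟩ := Ideal.mem_span_singleton.1 hx
    rw [smul_eq_mul, ← mul_assoc, mul_comm p]
    exact Ideal.mul_mem_right _ _ (Ideal.mem_span_singleton.2 hn)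
  rw [← hc _ (le_max_left _ _)] at hmem
  change p ∈ Submodule.colon _ _ at hmem
  rw [Submodule.mem_colon] at hmem
  have := hmem (C u ^ c) (Ideal.mem_span_singleton_self _)
  rw [smul_eq_mul] at this
  exact Ideal.mem_span_singleton.1 (by rwa [mul_comm (C u ^ c) p])

/-- Adjoining `a / u`, modulo `v`. -/
theorem ator_step [IsNoetherianRing B] (hι : Function.Injective (algebraMap B B'))
    (u a : B) (z : B') (hza : algebraMap B B' u * z = algebraMap B B' a)
    (hgen : Function.Surjective (aeval z : B[X] → B'))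
    (hu : ∀ y : B', algebraMap B B' u * y = 0 → y = 0) :
    ∃ c₀ : ℕ, ∀ (v : B), (v = 0 ∨ ∀ y : B', algebraMap B B' v * y = 0 → y = 0) →
      ∀ d c : ℕ, ATor d (LinearMap.mulLeft R (Ideal.Quotient.mk (Ideal.span {v}) (u ^ c))) →
        ATor (d + 1) (LinearMap.mulLeft R
          (Ideal.Quotient.mk (Ideal.span {algebraMap B B' v}) (algebraMap B B' u ^ (2 * (c + c₀))))) := by
  obtain ⟨c₀, hc₀⟩ := exists_pow_mul_mem hι u a z hza
  refine ⟨c₀, fun v hv d c hd => ?_⟩
  let N := B ⧸ Ideal.span {v}
  let N' := B' ⧸ Ideal.span {algebraMap B B' v}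
  let red : B[X] →+* N[X] := Polynomial.mapRingHom (Ideal.Quotient.mk (Ideal.span {v}))
  have hred : Function.Surjective red := Polynomial.map_surjective _ Ideal.Quotient.mk_surjective
  have hker : ∀ p : B[X], red p = 0 → C v ∣ p := fun p hp => by
    rw [C_dvd_iff_dvd_coeff]
    intro i
    have := congrArg (fun q => Polynomial.coeff q i) hp
    rw [coeff_zero] at this
    change (Polynomial.map _ p).coeff i = 0 at this
    rw [coeff_map, Ideal.Quotient.eq_zero_iff_mem] at this
    exact Ideal.mem_span_singleton.1 this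
  have hredv : red (C v) = 0 := by
    change Polynomial.map _ (C v) = 0
    rw [Polynomial.map_C, Ideal.Quotient.eq_zero_iff_mem.2 (Ideal.mem_span_singleton_self v), map_zero]
  let g : B[X] := C u * X - C a
  have hg : ∀ p : B[X], g * p = 0 → p = 0 := fun p hp => by
    by_contra hne
    have h1 := congrArg (fun q => Polynomial.coeff q (p.natDegree + 1)) hp
    simp only [g, sub_mul, mul_assoc, coeff_sub, coeff_C_mul, coeff_X_mul, coeff_zero,
      coeff_eq_zero_of_natDegree_lt (Nat.lt_succ_self _), mul_zero, sub_zero] at h1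
    refine leadingCoeff_ne_zero.2 hne (hι ?_)
    rw [map_zero]
    exact hu _ (by rw [← map_mul, ← map_zero (algebraMap B B')]; exact congrArg _ h1)
  have hφg : aeval z g = 0 := by simp [g, hza]
  -- the two divisibility facts
  have hA : ∀ y : B[X], red (g * y) = 0 → red (C u ^ c₀ * y) = 0 := fun y hy => by
    obtain ⟨x, hx⟩ := hker _ hy
    rcases hv with rfl | hv
    · rw [map_zero, zero_mul] at hx
      rw [hg y hx, mul_zero, map_zero]
    · have hx0 : aeval z x = 0 := hv _ (by
        have := congrArg (aeval z) hx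
        simpa [hφg] using this.symm)
      obtain ⟨w, hw⟩ := hc₀ x hx0
      have h2 : C u ^ c₀ * y - C v * w = 0 := hg _ (by
        linear_combination (C u ^ c₀) * hx + (C v) * hw)
      rw [sub_eq_zero.1 h2, map_mul, hredv, zero_mul]
  let φ : B[X] →+* N' := (Ideal.Quotient.mk _).comp (aeval z : B[X] →ₐ[B] B').toRingHom
  have hφker : RingHom.ker red ≤ RingHom.ker φ := fun p hp => by
    obtain ⟨q, rfl⟩ := hker p hp
    rw [RingHom.mem_ker, map_mul]
    suffices φ (C v) = 0 by rw [this, zero_mul]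
    change Ideal.Quotient.mk _ (aeval z (C v)) = 0
    rw [aeval_C]
    exact Ideal.Quotient.eq_zero_iff_mem.2 (Ideal.mem_span_singleton_self _)
  have hB : ∀ x : B[X], φ x = 0 → ∃ y, red (C u ^ c₀ * x) = red (g * y) := fun x hx => by
    obtain ⟨b, hb⟩ := Ideal.mem_span_singleton.1 (Ideal.Quotient.eq_zero_iff_mem.1 hx)
    obtain ⟨x', rfl⟩ := hgen b
    obtain ⟨y, hy⟩ := hc₀ (x - C v * x') (by
      change aeval z (x - C v * x') = 0
      rw [map_sub, map_mul, aeval_C]
      exact sub_eq_zero.2 hb)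
    refine ⟨y, ?_⟩
    rw [← sub_eq_zero, ← map_sub,
      show C u ^ c₀ * x - g * y = C v * (C u ^ c₀ * x') by linear_combination hy,
      map_mul, hredv, zero_mul]
  -- the multiplications
  let E := N[X]
  let μ : ℕ → E →ₗ[R] E := fun k => LinearMap.mulLeft R (red (C u ^ k))
  have hμ : ∀ k (p : B[X]), μ k (red p) = red (C u ^ k * p) := fun k p => (map_mul red _ _).symm
  have hμc : μ c = LinearMap.mulLeft R (C (Ideal.Quotient.mk (Ideal.span {v}) (u ^ c)) : N[X]) := by
    refine LinearMap.ext fun p => ?_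
    change red (C u ^ c) * p = _ * p
    rw [← map_pow C, show red (C (u ^ c)) = C (Ideal.Quotient.mk (Ideal.span {v}) (u ^ c)) from
      Polynomial.map_C _]
  have hEc : ATor d (μ c) := by rw [hμc]; exact hd.polynomial
  let ψ : E →ₗ[R] E := LinearMap.mulLeft R (red g)
  let W := LinearMap.range ψ
  obtain ⟨h, hh⟩ := exists_comp_eq_of_ker_le ψ.rangeRestrict ψ.surjective_rangeRestrict (μ c₀)
    (fun e he => by
      obtain ⟨y, rfl⟩ := hred e
      rw [LinearMap.mem_ker] at he ⊢
      have he' : red g * red y = 0 := congrArg Subtype.val he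
      rw [hμ]
      exact hA y (by rw [map_mul]; exact he'))
  have hmem : ∀ k, ∀ w ∈ W, μ k w ∈ W := fun k w hw => by
    obtain ⟨e, rfl⟩ := hw
    exact ⟨μ k e, by simp only [ψ, μ, LinearMap.mulLeft_apply]; ring⟩
  let aW : W →ₗ[R] W := (μ (c + c₀)).restrict (hmem _)
  have haW : ATor d aW := by
    suffices aW = (ψ.rangeRestrict ∘ₗ μ c) ∘ₗ h from this ▸ (hEc.comp_left _).comp_right _
    refine LinearMap.ext fun w => ?_
    obtain ⟨e, rfl⟩ := ψ.surjective_rangeRestrict w
    obtain ⟨y, rfl⟩ := hred e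
    have hh' := LinearMap.congr_fun hh (red y)
    simp only [LinearMap.comp_apply] at hh' ⊢
    rw [hh']
    refine Subtype.ext ?_
    change μ (c + c₀) (red g * red y) = red g * μ c (μ c₀ (red y))
    rw [← map_mul, hμ, hμ, hμ, ← map_mul, pow_add]
    congr 1
    ring
  let f : (E ⧸ W) →ₗ[R] (E ⧸ W) := W.mapQ W (μ (c + c₀)) (hmem _)
  let f' : (E ⧸ W) →ₗ[R] (E ⧸ W) := W.mapQ W (μ c) (hmem _)
  have hQ : ATor (d + 1) (f' ∘ₗ f) := fun n hn => by
    obtain ⟨m, rfl⟩ := Nat.exists_eq_add_of_le' (show 1 ≤ n by omega)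
    exact kills_of_ladder W.subtype W.mkQ W.subtype W.mkQ W.mkQ W.injective_subtype
      (LinearMap.exact_subtype_mkQ W) W.mkQ_surjective
      (LinearMap.ext fun w => (Submodule.Quotient.mk_eq_zero W).2 w.2)
      aW (μ (c + c₀)) f (μ c) f' rfl rfl rfl (haW m (by omega)) (hEc (m + 1) (by omega))
  let φ' : E →+* N' := RingHom.liftOfSurjective red hred ⟨φ, hφker⟩
  have hφ' : ∀ p, φ' (red p) = φ p := RingHom.liftOfRightInverse_comp_apply red _ _ ⟨φ, hφker⟩
  let φL : E →ₗ[R] N' :=
    { toFun := φ'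
      map_add' := map_add φ'
      map_smul' := fun r e => by
        obtain ⟨p, rfl⟩ := hred e
        rw [RingHom.id_apply, Algebra.smul_def, Algebra.smul_def, map_mul,
          show algebraMap R E r = red (C (algebraMap R B r)) from
            (Polynomial.algebraMap_apply r).trans (Polynomial.map_C (Ideal.Quotient.mk (Ideal.span {v}))).symm, hφ']
        congr 1
        change Ideal.Quotient.mk _ (aeval z (C (algebraMap R B r))) = _
        rw [aeval_C, ← IsScalarTower.algebraMap_apply R B B']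
        rfl }
  have hφW : W ≤ LinearMap.ker φL := fun w hw => by
    obtain ⟨e, rfl⟩ := hw
    obtain ⟨y, rfl⟩ := hred e
    change φ' (red g * red y) = 0
    rw [← map_mul, hφ']
    change Ideal.Quotient.mk _ (aeval z (g * y)) = 0
    rw [map_mul, hφg, zero_mul, map_zero]
  have hsurj : Function.Surjective (W.liftQ φL hφW) := fun b => by
    obtain ⟨b, rfl⟩ := Ideal.Quotient.mk_surjective b
    obtain ⟨p, rfl⟩ := hgen b
    exact ⟨Submodule.Quotient.mk (red p), hφ' p⟩
  obtain ⟨k, hk⟩ := exists_comp_eq_of_ker_le (W.liftQ φL hφW) hsurj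
    (W.mapQ W (μ c₀) (hmem _)) (fun q hq => by
      obtain ⟨e, rfl⟩ := W.mkQ_surjective q
      obtain ⟨x, rfl⟩ := hred e
      have hx : φ x = 0 := by rw [← hφ']; exact hq
      obtain ⟨y, hy⟩ := hB x hx
      change Submodule.Quotient.mk (μ c₀ (red x)) = 0
      rw [Submodule.Quotient.mk_eq_zero, hμ, hy, map_mul]
      exact ⟨red y, rfl⟩)
  suffices LinearMap.mulLeft R (Ideal.Quotient.mk (Ideal.span {algebraMap B B' v})
      (algebraMap B B' u ^ (2 * (c + c₀)))) = (W.liftQ φL hφW ∘ₗ (f' ∘ₗ f)) ∘ₗ k from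
    this ▸ (hQ.comp_left _).comp_right k
  refine LinearMap.ext fun b => ?_
  obtain ⟨q, rfl⟩ := hsurj b
  obtain ⟨e, rfl⟩ := W.mkQ_surjective q
  obtain ⟨x, rfl⟩ := hred e
  have hk' := LinearMap.congr_fun hk (W.mkQ (red x))
  simp only [LinearMap.comp_apply] at hk' ⊢
  rw [hk']
  change _ * φ' (red x) = φ' (μ c (μ (c + c₀) (μ c₀ (red x))))
  rw [hμ, hμ, hμ, hφ', hφ', map_mul φ, map_mul φ, map_mul φ, ← mul_assoc, ← mul_assoc,
    ← map_mul φ, ← map_mul φ, ← pow_add, ← pow_add,
    show c + (c + c₀) + c₀ = 2 * (c + c₀) by ring]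
  congr 1
  change _ = Ideal.Quotient.mk _ (aeval z (C u ^ (2 * (c + c₀))))
  rw [map_pow (aeval z), aeval_C]

end Groth.Agent.H6Tor
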